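import Cfsg.Agent.Lib.Char.FewSylow.QPower.Main
import Cfsg.Agent.Lib.Invol.SimpleSixty
import Cfsg.Agent.Lib.Invol.CyclicCentralizer
import Cfsg.Agent.Lib.Classical.ProjLine

/-!
# Simple groups of order `p r qᵇ`
-/

set_option autoImplicit false
set_option linter.unusedSectionVars false
set_option linter.style.haveILetI false

namespace CfsgLib.Char.FewSylow.QPower

open Cfsg CfsgLib.Char.FewSylow

universe u

/-- The conclusion. -/
def FiveSeven (G : Type u) [Group G] : Prop :=
  (∃ (F : Type) (_ : Field F) (_ : Fintype F), Fintype.card F = 5 ∧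
      Nonempty (G ≃* Matrix.ProjectiveSpecialLinearGroup (Fin 2) F)) ∨
    ∃ (F : Type) (_ : Field F) (_ : Fintype F), Fintype.card F = 7 ∧
      Nonempty (G ≃* Matrix.ProjectiveSpecialLinearGroup (Fin 2) F)

theorem odd_part {a c x y : ℕ} (hx : ¬ 2 ∣ x) (hy : ¬ 2 ∣ y) (h : 2 ^ a * x = 2 ^ c * y) : x = y := by
  have hcop : ∀ {z : ℕ}, ¬ 2 ∣ z → ∀ k, Nat.Coprime z (2 ^ k) := fun hz k =>
    ((Nat.prime_two.coprime_iff_not_dvd.mpr hz).symm).pow_right k
  exact Nat.dvd_antisymm ((hcop hx c).dvd_of_dvd_mul_left ⟨2 ^ a, by rw [← h, mul_comm]⟩)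
    ((hcop hy a).dvd_of_dvd_mul_left ⟨2 ^ c, by rw [h, mul_comm]⟩)

/-- The odd part of `r qᵇ = 2ᵏ s`. -/
theorem split_eq {q r b k s : ℕ} (hq : q.Prime) (hr : r.Prime) (hqr : q ≠ r) (hk : 2 ≤ k)
    (hs : ¬ 2 ∣ s) (h : r * q ^ b = 2 ^ k * s) : r = s := by
  rcases hq.eq_two_or_odd' with rfl | hqo
  · refine odd_part (a := b) (c := k) (fun h2 => hqr ?_) hs (by rw [← h, mul_comm])
    exact (Nat.prime_dvd_prime_iff_eq Nat.prime_two hr).mp h2
  · exfalso
    have hcop : Nat.Coprime (2 ^ k) (q ^ b) :=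
      ((Nat.coprime_two_left.mpr hqo).pow_left k).pow_right b
    have h1 : 2 ^ k ∣ r := hcop.dvd_of_dvd_mul_right (h ▸ dvd_mul_right _ _)
    obtain ⟨i, hi, he⟩ := (Nat.dvd_prime_pow Nat.prime_two (m := k)).mp (dvd_refl (2 ^ k))
    rcases (Nat.dvd_prime hr).mp h1 with h2 | h2
    · have : 2 ^ 2 ≤ 2 ^ k := Nat.pow_le_pow_right two_pos hk
      omega
    · have h3 : 2 ∣ r := h2 ▸ dvd_pow_self 2 (by omega)
      have h4 := (Nat.prime_dvd_prime_iff_eq Nat.prime_two hr).mp h3
      have : 2 ^ 2 ≤ 2 ^ k := Nat.pow_le_pow_right two_pos hk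
      omega

theorem two_succ_prime {m : ℕ} (h : (2 ^ m + 1).Prime) (hm : m ≠ 0) : ∃ i, m = 2 ^ i :=
  Nat.pow_of_pow_add_prime (by norm_num) hm h

/-- The arithmetic. -/
theorem classify_three {G : Type u} [Group G] [Finite G] [IsSimpleGroup G] (hG : ¬ IsCyclic G)
    {p r q b : ℕ} (hp : p.Prime) (hq : q.Prime) (hr : r.Prime) (hpq : p ≠ q) (hqr : q ≠ r)
    (hlt : r < p) (hcard : Nat.card G = p * r * q ^ b) : FiveSeven G := by
  classical
  haveI : Fact p.Prime := ⟨hp⟩
  have hr2 := hr.two_le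
  by_cases hr1 : r < p - 1
  swap
  · exfalso
    have hpr : p = r + 1 := by omega
    have hr' : r = 2 := by
      rcases hr.eq_two_or_odd' with h | h
      · exact h
      · exfalso
        obtain ⟨a, ha⟩ := h
        have := (Nat.prime_dvd_prime_iff_eq Nat.prime_two hp).mp ⟨a + 1, by omega⟩
        omega
    have hp3 : p = 3 := by omega
    haveI : Fact (Nat.Prime 2) := ⟨Nat.prime_two⟩
    have hqo : Odd q := hq.odd_of_ne_two (by omega)
    have hodd : ¬ 2 ∣ p * q ^ b := fun h => by
      rcases Nat.prime_two.dvd_mul.mp h with h' | h'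
      · omega
      · exact hqr ((Nat.prime_dvd_prime_iff_eq Nat.prime_two hq).mp (Nat.prime_two.dvd_of_dvd_pow h') ▸ hr'.symm)
    have hfac : Nat.card G = 2 * (p * q ^ b) := by rw [hcard, hr']; ring
    let T : Sylow 2 G := default
    have hT : Nat.card (T : Subgroup G) = 2 := by
      rw [T.card_eq_multiplicity, Nat.factorization_def _ Nat.prime_two, hfac,
        padicValNat.mul (by norm_num) (show p * q ^ b ≠ 0 from fun h0 => hodd (by rw [h0]; exact dvd_zero 2)), padicValNat.self one_lt_two,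
        padicValNat.eq_zero_of_not_dvd hodd]
      norm_num
    obtain ⟨K, hK⟩ := CfsgLib.Invol.exists_index_two_of_cyclic (G := G)
      (hfac ▸ even_two_mul _) T (isCyclic_of_prime_card hT)
    rcases (Subgroup.normal_of_index_eq_two hK).eq_bot_or_eq_top with hb | ht
    · rw [hb, Subgroup.index_bot, hfac] at hK
      have h1 : p * q ^ b = 1 := by omega
      rw [Nat.eq_one_of_mul_eq_one_right h1] at hp3
      omega
    · rw [ht, Subgroup.index_top] at hK
      omega
  have hcard' : Nat.card G = p * q ^ b * r := by rw [hcard]; ring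
  obtain ⟨hC, m, hm⟩ := classify hG hq hpq.symm hcard' hr1
  rcases hC with ⟨F, iF, iFF, hF, hp3, ⟨ψ⟩⟩ | ⟨m', F, iF, iFF, hF, hpm, hp3, ⟨ψ⟩⟩
  · have hc := CfsgLib.Classical.card_psl2 (F := F)
    have hg2 : Nat.gcd 2 (p - 1) = 2 := by
      obtain ⟨a, ha⟩ := hp.odd_of_ne_two (by omega)
      exact Nat.gcd_eq_left ⟨a, by omega⟩
    rw [hF, hg2, ← Nat.card_congr ψ.toEquiv, hcard] at hc
    have key : 2 * (r * q ^ b) = (p - 1) * (p + 1) := by
      refine Nat.eq_of_mul_eq_mul_left hp.pos ?_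
      rw [← hc]; ring
    rcases hm with hm | hm
    · have hm2 : 2 ≤ m := by
        by_contra hh
        interval_cases m <;> simp at hm <;> omega
      obtain ⟨j, rfl⟩ : ∃ j, m = j + 1 := ⟨m - 1, by omega⟩
      have e1 : p - 1 = 2 ^ (j + 1) := by omega
      have e2 : p + 1 = 2 * (2 ^ j + 1) := by rw [pow_succ] at hm; omega
      rw [e1, e2] at key
      have hrs : r = 2 ^ j + 1 := by
        refine split_eq (b := b) (k := j + 1) hq hr hqr hm2 (fun h => ?_) ?_
        · have := (Nat.dvd_add_right (dvd_pow_self 2 (show j ≠ 0 by omega))).mp h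
          omega
        · refine Nat.eq_of_mul_eq_mul_left two_pos ?_
          rw [key]; ring
      obtain ⟨i, hi⟩ := two_succ_prime (m := j) (hrs ▸ hr) (by omega)
      obtain ⟨i', hi'⟩ := two_succ_prime (m := j + 1) (hm ▸ hp) (by omega)
      have hj : j = 1 := by
        rcases Nat.eq_zero_or_pos i with h0 | h0
        · rw [h0, pow_zero] at hi; exact hi
        exfalso
        have hi'0 : i' ≠ 0 := fun h => by rw [h, pow_zero] at hi'; omega
        have h1 : 2 ∣ j := hi ▸ dvd_pow_self 2 (by omega)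
        have h2 : 2 ∣ j + 1 := hi' ▸ dvd_pow_self 2 hi'0
        omega
      subst hj
      exact Or.inl ⟨F, iF, iFF, by rw [hF, hm]; norm_num, ⟨ψ⟩⟩
    · have hm3 : 3 ≤ m := by
        by_contra hh
        interval_cases m <;> simp at hm <;> omega
      obtain ⟨j, rfl⟩ : ∃ j, m = j + 1 := ⟨m - 1, by omega⟩
      have hpj := pow_succ 2 j
      have e1 : p + 1 = 2 ^ (j + 1) := by omega
      have e2 : p - 1 = 2 * (2 ^ j - 1) := by omega
      rw [e1, e2] at key
      have hrs : r = 2 ^ j - 1 := by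
        refine split_eq (b := b) (k := j + 1) hq hr hqr (by omega) (fun h => ?_) ?_
        · have h2 : 2 ∣ 2 ^ j := dvd_pow_self 2 (show j ≠ 0 by omega)
          have := Nat.one_le_two_pow (n := j)
          omega
        · refine Nat.eq_of_mul_eq_mul_left two_pos ?_
          rw [key]; ring
      have h1 : j.Prime := (Nat.prime_of_pow_sub_one_prime (n := j) (by omega) (hrs ▸ hr)).2
      have h2 : (j + 1).Prime :=
        (Nat.prime_of_pow_sub_one_prime (n := j + 1) (by omega) (hm ▸ hp)).2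
      have hj : j = 2 := by
        rcases h1.eq_two_or_odd' with h | ⟨a, ha⟩
        · exact h
        · exfalso
          have := (Nat.prime_dvd_prime_iff_eq Nat.prime_two h2).mp ⟨a + 1, by omega⟩
          omega
      subst hj
      exact Or.inr ⟨F, iF, iFF, by rw [hF, hm]; norm_num, ⟨ψ⟩⟩
  · have hc := CfsgLib.Classical.card_psl2 (F := F)
    have hm2 : 2 ≤ m' := by
      by_contra hh
      interval_cases m' <;> simp at hpm <;> omega
    have hg1 : Nat.gcd 2 (2 ^ m' - 1) = 1 := by
      refine (Nat.prime_two.coprime_iff_not_dvd).mpr fun h => ?_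
      have h2 : 2 ∣ 2 ^ m' := dvd_pow_self 2 (by omega)
      have := Nat.one_le_two_pow (n := m')
      omega
    rw [hF, hg1, one_mul, ← Nat.card_congr ψ.toEquiv, hcard] at hc
    have key : r * q ^ b = 2 ^ m' * (2 ^ m' - 1) := by
      refine Nat.eq_of_mul_eq_mul_left hp.pos ?_
      rw [← mul_assoc, hc, hpm]; ring
    have hrs : r = 2 ^ m' - 1 := split_eq (b := b) hq hr hqr hm2 (fun h => by
      have h2 : 2 ∣ 2 ^ m' := dvd_pow_self 2 (by omega)
      have := Nat.one_le_two_pow (n := m')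
      omega) key
    have h1 : m'.Prime := (Nat.prime_of_pow_sub_one_prime (n := m') (by omega) (hrs ▸ hr)).2
    obtain ⟨i, hi⟩ := two_succ_prime (m := m') (hpm ▸ hp) (by omega)
    have hm' : m' = 2 := by
      have h2 : 2 ∣ m' := hi ▸ dvd_pow_self 2 (fun h => by rw [h, pow_zero] at hi; omega)
      exact ((Nat.prime_dvd_prime_iff_eq Nat.prime_two h1).mp h2).symm
    subst hm'
    have h60 : Nat.card G = 60 := by
      rw [hcard, hc]
      norm_num
    haveI : Fact (Nat.Prime 5) := ⟨by norm_num⟩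
    haveI : IsSimpleGroup (Matrix.ProjectiveSpecialLinearGroup (Fin 2) (ZMod 5)) :=
      Matrix.ProjectiveSpecialLinearGroup.rank_two_simple (by
        rw [Nat.card_eq_fintype_card, ZMod.card]; norm_num)
    have h60' : Nat.card (Matrix.ProjectiveSpecialLinearGroup (Fin 2) (ZMod 5)) = 60 := by
      have h5 := CfsgLib.Classical.card_psl2 (F := ZMod 5)
      rw [ZMod.card] at h5
      rw [show Nat.gcd 2 (5 - 1) = 2 from rfl] at h5
      omega
    obtain ⟨α⟩ := CfsgLib.Invol.mulEquiv_alternating_five h60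
    obtain ⟨β⟩ := CfsgLib.Invol.mulEquiv_alternating_five h60'
    exact Or.inl ⟨ZMod 5, inferInstance, inferInstance, ZMod.card 5, ⟨α.trans β.symm⟩⟩

/-- The classification, without an order of the primes. -/
theorem classify_three_primes {G : Type u} [Group G] [Finite G] [IsSimpleGroup G] (hG : ¬ IsCyclic G)
    {p r q b : ℕ} (hp : p.Prime) (hq : q.Prime) (hr : r.Prime) (hpq : p ≠ q) (hpr : p ≠ r) (hqr : q ≠ r)
    (hcard : Nat.card G = p * r * q ^ b) : FiveSeven G := by
  rcases lt_or_gt_of_ne hpr with h | h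
  · exact classify_three (b := b) hG hr hq hp hqr.symm hpq.symm h (by rw [hcard]; ring)
  · exact classify_three hG hp hq hr hpq hqr h hcard

end CfsgLib.Char.FewSylow.QPower
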