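import Cfsg.Agent.Lib.Char.FewSylow.QPower.Rel
import Cfsg.Agent.Lib.Char.FewSylow.Plus
import Cfsg.Agent.Lib.Invol.InvertedOdd

/-!
# Simple groups of order `p qᵇ d`: auxiliary facts
-/

set_option autoImplicit false
set_option linter.unusedSectionVars false
set_option linter.style.haveILetI false

open scoped ComplexConjugate

namespace CfsgLib.Char.FewSylow.QPower

open Cfsg CfsgLib.Char CfsgLib.Block CfsgLib.Block.Cyclic CfsgLib.Char.FewSylow MulAction

universe u

variable {p : ℕ} [Fact p.Prime] {G : Type u} [Group G] [Fintype G] [DecidableEq G]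
  {D : CycSetup p G} [Fintype D.K] {n e : ℕ}

/-- The constituents of a character. -/
theorem exists_coeff [Fintype (IrrCharacter G)] {ψ : G → ℂ} (hψ : IsCharacter G ψ) :
    ∃ c : IrrCharacter G → ℕ,
      (∀ g, ψ g = ∑ f : IrrCharacter G, (c f : ℂ) * (f : G → ℂ) g) ∧
      (∀ f : IrrCharacter G, classInner ψ (f : G → ℂ) = c f) ∧
      classInner ψ ψ = ((∑ f : IrrCharacter G, c f * c f : ℕ) : ℂ) := by
  classical
  choose c hc using fun f : IrrCharacter G => classInner_isCharacter hψ (isCharacter_irr f)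
  have hexp : ψ = ∑ f : IrrCharacter G, (c f : ℂ) • (f : G → ℂ) := by
    conv_lhs => rw [classFun_expand (isClassFunction_of_isCharacter hψ)]
    simp only [hc]
  refine ⟨c, fun g => ?_, hc, ?_⟩
  · conv_lhs => rw [hexp]
    simp [Finset.sum_apply]
  · conv_lhs => arg 2; rw [hexp]
    rw [classInner_sum_right, Nat.cast_sum]
    refine Finset.sum_congr rfl fun f _ => ?_
    rw [classInner_smul_right, hc, map_natCast]
    push_cast
    rfl

theorem fixd_sum_mul [Fintype (IrrCharacter G)] (h : Small D n e) {ψ : G → ℂ} {c : IrrCharacter G → ℕ}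
    (hexp : ∀ g, ψ g = ∑ f : IrrCharacter G, (c f : ℂ) * (f : G → ℂ) g) :
    fixd D ψ = ((∑ f : IrrCharacter G, c f * fx D f : ℕ) : ℂ) := by
  simp only [fixd, hexp]
  rw [Finset.sum_comm, Finset.mul_sum, Nat.cast_sum]
  refine Finset.sum_congr rfl fun f _ => ?_
  rw [Nat.cast_mul, ← h.fixd_eq, fixd, ← Finset.mul_sum]
  ring

/-- The fixed points of a product. -/
theorem fixd_mul (h : Small D n e) (f g : IrrCharacter G) :
    fixd D (fun x => (f : G → ℂ) x * (g : G → ℂ) x) =
      ((∑ j : ZMod p, D.multN f j * D.multN g (-j) : ℕ) : ℂ) := by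
  classical
  have hv : ∀ (χ : IrrCharacter G) (i : ZMod p),
      (χ : G → ℂ) (D.xp i) = ∑ j : ZMod p, stdPsi p (i * j) * D.multN χ j := by
    intro χ i
    rw [← h.dval_eq (χ : G → ℂ) i, D.dval_eq_sum_mult]
    simp only [D.mult_eq]
  rw [fixd]
  simp only [hv, Finset.sum_mul_sum]
  rw [Finset.sum_comm, Finset.mul_sum, Nat.cast_sum]
  refine Finset.sum_congr rfl fun j _ => ?_
  rw [Finset.sum_comm, Finset.sum_congr rfl fun k _ => Finset.sum_congr rfl
    (g := fun i => (D.multN f j : ℂ) * D.multN g k * stdPsi p (i * (j + k))) fun i _ => by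
      rw [show i * (j + k) = i * j + i * k by ring, AddChar.map_add_eq_mul]; ring]
  simp only [← Finset.mul_sum, sum_stdPsi_mul, add_eq_zero_iff_neg_eq, mul_ite, mul_zero,
    Finset.sum_ite_eq, Finset.mem_univ, if_true]
  push_cast
  field_simp [p_cast_ne_zero (p := p)]

/-- The sum over the elements of order `p` of the subgroup. -/
theorem sum_units_value (h : Small D n e) (f : IrrCharacter G) :
    ∑ i : (ZMod p)ˣ, (f : G → ℂ) (D.xp i) = (p : ℂ) * fx D f - deg f := by
  have h1 := p_mul_fixd D (f : G → ℂ)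
  rw [h.fixd_eq, sum_zmod_split (fun i : ZMod p => (f : G → ℂ) (D.xp i)), D.xp_zero, val_one] at h1
  linear_combination -h1

theorem center_eq_bot_of_perfect [IsSimpleGroup G] [Nontrivial G] (hperf : commutator G = ⊤) :
    Subgroup.center G = ⊥ := by
  refine (Subgroup.Normal.eq_bot_or_eq_top (inferInstance : (Subgroup.center G).Normal)).resolve_right
    fun ht => ?_
  have hb : commutator G = ⊥ := by
    rw [eq_bot_iff, commutator_def, Subgroup.commutator_le]
    intro a _ b _
    rw [Subgroup.mem_bot, commutatorElement_eq_one_iff_mul_comm]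
    exact Subgroup.mem_center_iff.mp (ht ▸ Subgroup.mem_top b) a
  rw [hperf] at hb
  exact bot_ne_top hb.symm

/-- Burnside: a non-trivial character vanishes on a class of size prime to its degree. -/
theorem value_eq_zero_of_coprime [IsSimpleGroup G] (hperf : commutator G = ⊤) {f : IrrCharacter G}
    (hf : f ≠ Block.oneChar G) {g : G} (hg : g ≠ 1)
    (hcop : Nat.Coprime (deg f) (Subgroup.centralizer ({g} : Set G)).index) :
    (f : G → ℂ) g = 0 := by
  classical
  obtain ⟨k, ρ, hρ, hc⟩ := f.2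
  have hk : deg f = k := by
    have h1 := val_one f
    rw [← hc, Representation.char_one, Module.finrank_fin_fun] at h1
    exact_mod_cast h1.symm
  rw [← hc]
  refine (char_zero_or_norm_eq_degree ρ g (by rwa [Module.finrank_fin_fun, ← hk])).resolve_right
    fun hnorm => hg ?_
  obtain ⟨ω, hω⟩ := (norm_char_eq_iff ρ g).mp hnorm
  have hcomm : ∀ x : G, x * g = g * x := by
    intro x
    have h1 : ρ (x * g * (g * x)⁻¹) = LinearMap.id := by
      have h2 : ρ (x * g) = ρ (g * x) := by
        rw [map_mul, map_mul, hω]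
        exact LinearMap.ext fun v => by simp
      rw [map_mul, h2, ← map_mul, mul_inv_cancel, map_one]
      rfl
    have h2 : (f : G → ℂ) (x * g * (g * x)⁻¹) = deg f := by
      rw [← hc, (char_eq_degree_iff ρ _).mpr h1, Module.finrank_fin_fun, hk]
    exact mul_inv_eq_one.mp (eq_one_of_value_eq_deg hf h2)
  have hz : g ∈ Subgroup.center G := Subgroup.mem_center_iff.mpr hcomm
  rwa [center_eq_bot_of_perfect hperf, Subgroup.mem_bot] at hz

/-- The values at an involution are real. -/
theorem conj_invol (f : IrrCharacter G) {g : G} (hg : g * g = 1) :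
    conj ((f : G → ℂ) g) = (f : G → ℂ) g := by
  rw [← irr_inv, inv_eq_of_mul_eq_one_right hg]

theorem not_dvd_centralizer (h : Small D n e) {g : G} (hg : ¬ p ∣ orderOf g) (hg1 : g ≠ 1) :
    ¬ p ∣ Nat.card (Subgroup.centralizer ({g} : Set G)) := by
  intro hdvd
  obtain ⟨v, hv⟩ := exists_prime_orderOf_dvd_card' p hdvd
  have hvg : Commute (v : G) g := Subgroup.mem_centralizer_singleton_iff.mp v.2
  have hvo : p ∣ orderOf (v : G) := by rw [Subgroup.orderOf_coe, hv]
  obtain ⟨c, i, y, hi, hcy⟩ := D.exists_section_conj hvo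
  rw [h.K_eq_one y, mul_one] at hcy
  have hcomm : Commute (c * g * c⁻¹) (D.xp i) := by
    rw [← hcy]
    show c * g * c⁻¹ * (c * (v : G) * c⁻¹) = c * (v : G) * c⁻¹ * (c * g * c⁻¹)
    calc c * g * c⁻¹ * (c * (v : G) * c⁻¹) = c * (g * (v : G)) * c⁻¹ := by group
      _ = c * ((v : G) * g) * c⁻¹ := by rw [hvg.eq]
      _ = _ := by group
  have hQ := h.mem_Q_of_commute hi hcomm
  have hne : c * g * c⁻¹ ≠ 1 := fun e1 => hg1 (conj_eq_one_iff.mp e1)
  have ho := orderOf_eq_p D.hQ hQ hne
  rw [orderOf_conj_eq] at ho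
  exact hg (by rw [ho])

theorem exists_central_involution (h2 : 2 ∣ Nat.card G) :
    ∃ j : G, orderOf j = 2 ∧ Odd (Subgroup.centralizer ({j} : Set G)).index := by
  haveI : Fact (Nat.Prime 2) := ⟨Nat.prime_two⟩
  let P : Sylow 2 G := default
  haveI : Nontrivial (P : Subgroup G) := (Subgroup.nontrivial_iff_ne_bot _).mpr (P.ne_bot_of_dvd_card h2)
  haveI : Nontrivial (Subgroup.center (P : Subgroup G)) := P.isPGroup'.center_nontrivial
  have hd : 2 ∣ Nat.card (Subgroup.center (P : Subgroup G)) := by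
    obtain ⟨k, hk⟩ := IsPGroup.iff_card.mp (P.isPGroup'.to_subgroup
      (Subgroup.center (P : Subgroup G)))
    have hk0 : k ≠ 0 := fun h0 => by
      rw [h0, pow_zero] at hk
      exact Finite.one_lt_card.ne' hk
    rw [hk]
    exact dvd_pow_self 2 hk0
  obtain ⟨c, hc⟩ := exists_prime_orderOf_dvd_card' 2 hd
  refine ⟨(c.1 : G), by rw [Subgroup.orderOf_coe, Subgroup.orderOf_coe, hc], ?_⟩
  have hle : (P : Subgroup G) ≤ Subgroup.centralizer ({(c.1 : G)} : Set G) := fun x hx => by
    rw [Subgroup.mem_centralizer_singleton_iff]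
    exact congrArg Subtype.val (Subgroup.mem_center_iff.mp c.2 ⟨x, hx⟩)
  rw [← Nat.not_even_iff_odd, even_iff_two_dvd]
  exact fun hd2 => P.not_dvd_index (hd2.trans (Subgroup.index_dvd_of_le hle))

/-- An element of prime order not dividing the number of Sylow subgroups is conjugate into the
normalizer. -/
theorem exists_conj_mem_norm (h : Small D n e) {r : ℕ} [Fact r.Prime] {w : G} (hw : orderOf w = r)
    (hr : ¬ r ∣ n * p + 1) : ∃ g : G, g⁻¹ * w * g ∈ norm D := by
  classical
  let W := Subgroup.zpowers w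
  have hW : IsPGroup r W := IsPGroup.of_card (n := 1) (by rw [Nat.card_zpowers, hw, pow_one])
  obtain ⟨x, hx⟩ := hW.nonempty_fixed_point_of_prime_not_dvd_card (G ⧸ norm D)
    (by rwa [← Subgroup.index_eq_card, h.index])
  obtain ⟨g, rfl⟩ := QuotientGroup.mk_surjective x
  refine ⟨g, smul_mk_eq_iff.mp ?_⟩
  exact hx ⟨w, Subgroup.mem_zpowers w⟩

/-- Outside the subgroup, the centralizer has at least `e` elements. -/
theorem le_card_centralizer (h : Small D n e) (he : 2 ≤ e) {g : G} (hg : g ∈ norm D) (hgQ : g ∉ D.Q) :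
    e ∣ Nat.card (Subgroup.centralizer ({g} : Set G)) := by
  obtain ⟨w, hw, hwo, hwQ, -, hdec⟩ := h.exists_gen he
  obtain ⟨a, -, hv⟩ := hdec g hg
  have hne : w ^ a ∉ D.Q := fun hm => hgQ (by
    have := D.Q.mul_mem hm hv
    rwa [mul_inv_cancel_left] at this)
  obtain ⟨u, -, hu⟩ := h.exists_conj ((norm D).pow_mem hw a) hne hv
  rw [mul_inv_cancel_left] at hu
  have hle : Subgroup.zpowers (u * w * u⁻¹) ≤ Subgroup.centralizer ({g} : Set G) := by
    rw [Subgroup.zpowers_le, Subgroup.mem_centralizer_singleton_iff, ← hu]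
    have hcm : Commute w (w ^ a) := Commute.self_pow w a
    calc u * w * u⁻¹ * (u * w ^ a * u⁻¹) = u * (w * w ^ a) * u⁻¹ := by group
      _ = u * (w ^ a * w) * u⁻¹ := by rw [hcm.eq]
      _ = _ := by group
  have h1 := Subgroup.card_dvd_of_le hle
  rwa [Nat.card_zpowers, orderOf_conj_eq, hwo] at h1

end CfsgLib.Char.FewSylow.QPower
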