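import Cfsg.Agent.Lib.Char.FewSylow.QPower.MinusShape

/-!
# Sign `-`: there are few Sylow subgroups

At a central involution of a Sylow `2`-subgroup the order of that subgroup divides a small
number built from the character values.
-/

set_option autoImplicit false
set_option linter.unusedSectionVars false
set_option linter.style.haveILetI false

open scoped ComplexConjugate

namespace CfsgLib.Char.FewSylow.QPower

open Cfsg CfsgLib.Char CfsgLib.Block CfsgLib.Block.Cyclic CfsgLib.Char.FewSylow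

universe u

variable {p : ℕ} [Fact p.Prime] {G : Type u} [Group G] [Fintype G] [DecidableEq G]
  {D : CycSetup p G} [Fintype D.K] {n e q b d : ℕ} {H : QData D n e q b d}

/-- The value at an involution. -/
theorem exists_int_invol (f : IrrCharacter G) {j : G} (hj : orderOf j = 2) :
    ∃ N : ℕ, N ≤ deg f ∧ (f : G → ℂ) j = ((2 * (N : ℤ) - (deg f : ℤ) : ℤ) : ℂ) := by
  obtain ⟨N, hN⟩ := exists_sum_powers (isCharacter_irr f) j (ε := 1) (one_pow _)
  obtain ⟨M, hM⟩ := exists_sum_powers (isCharacter_irr f) j (ε := -1) (by rw [hj]; norm_num)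
  rw [hj, Finset.sum_range_succ, Finset.sum_range_succ, Finset.sum_range_zero] at hN hM
  simp only [pow_zero, pow_one, one_mul, zero_add, val_one, Nat.cast_ofNat, neg_mul] at hN hM
  refine ⟨N, ?_, ?_⟩
  · have h1 : ((N + M : ℕ) : ℂ) = (deg f : ℂ) := by
      push_cast
      linear_combination (-1 / 2 : ℂ) * hN + (-1 / 2 : ℂ) * hM
    have h2 : N + M = deg f := by exact_mod_cast h1
    omega
  · push_cast
    linear_combination hN

theorem few_of_minus [Fintype (IrrCharacter G)] [IsSimpleGroup G] (hperf : commutator G = ⊤)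
    (S : MinusShape H) (hn : 1 ≤ n) : 2 * n < p + 3 := by
  classical
  have hb := H.b_pos hn
  obtain ⟨hdp, hhalf⟩ := H.minus_eq S.delta
  have hd2 := H.d_two
  have hdlt := H.d_lt
  have h2G : 2 ∣ Nat.card G := by
    rw [H.card, S.q_two]
    exact dvd_mul_of_dvd_left (dvd_mul_of_dvd_right (dvd_pow_self 2 (by omega)) _) _
  obtain ⟨j, hj, hodd⟩ := exists_central_involution h2G
  have hj1 : j ≠ 1 := fun h => by rw [h, orderOf_one] at hj; exact absurd hj (by decide)
  have hreg : ¬ p ∣ orderOf j := fun h => by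
    rw [hj] at h
    have := Nat.le_of_dvd two_pos h
    omega
  have hZ : ∀ f ∈ S.Z, (f : G → ℂ) j = 0 := fun f hf => by
    refine value_eq_zero_of_coprime hperf (fun h => ?_) hj1 ?_
    · have h1 := S.Z_deg f hf
      rw [h, deg_one] at h1
      have := S.p_eq
      omega
    · rw [S.Z_deg f hf]
      exact Nat.Coprime.pow_left _ (Nat.coprime_two_left.mpr hodd)
  have hX : ∀ f ∈ S.X, ∃ x : ℤ, x * x ≤ (d : ℤ) * d ∧ (f : G → ℂ) j = 2 * (x : ℂ) := by
    intro f hf
    obtain ⟨N, hN, hv⟩ := exists_int_invol f hj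
    rw [S.X_deg f hf] at hv hN
    refine ⟨(N : ℤ) - d, ?_, by rw [hv]; push_cast; ring⟩
    have h1 : (0 : ℤ) ≤ N := Int.natCast_nonneg N
    have h2 : (N : ℤ) ≤ 2 * d := by exact_mod_cast hN
    nlinarith
  choose! x hx2 hxv using hX
  obtain ⟨N, hN, hv⟩ := exists_int_invol H.y hj
  rw [H.deg_y] at hv hN
  set y : ℤ := 2 * (N : ℤ) - d with hy
  have hy2 : y * y ≤ (d : ℤ) * d := by
    have h1 : (0 : ℤ) ≤ N := Int.natCast_nonneg N
    have h2 : (N : ℤ) ≤ d := by exact_mod_cast hN
    nlinarith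
  have hdC : (d : ℂ) ≠ 0 := Nat.cast_ne_zero.mpr (by omega)
  have hyrel : y = -1 - 2 * ∑ f ∈ S.X, x f := by
    have h1 := H.relation hreg
    rw [S.sum_u, S.delta, Finset.sum_eq_zero hZ, hv,
      Finset.sum_congr rfl fun f hf => hxv f hf, ← Finset.mul_sum, ← Int.cast_sum,
      show (Block.oneChar G : G → ℂ) j = 1 from rfl] at h1
    apply Int.cast_injective (α := ℂ)
    push_cast at h1 ⊢
    linear_combination -h1
  set T : ℤ := (d : ℤ) + y * y + 2 * ∑ f ∈ S.X, x f * x f with hT
  have hrel : H.rel j j = -((T : ℂ) / (d : ℂ)) := by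
    rw [QData.rel, S.sum_u fun f => (f : G → ℂ) j * (f : G → ℂ) j / (f : G → ℂ) 1, S.delta,
      Finset.sum_eq_zero (s := S.Z) (fun f hf => by rw [hZ f hf]; simp), hv,
      Finset.sum_congr rfl fun f (hf : f ∈ S.X) =>
        show (f : G → ℂ) j * (f : G → ℂ) j / (f : G → ℂ) 1 = ((2 * (x f * x f) : ℤ) : ℂ) / (d : ℂ) by
          rw [hxv f hf, val_one, S.X_deg f hf]
          push_cast
          field_simp,
      ← Finset.sum_div, ← Int.cast_sum, ← Finset.mul_sum, val_one H.y, H.deg_y,
      show (Block.oneChar G : G → ℂ) j = 1 from rfl, show (Block.oneChar G : G → ℂ) 1 = 1 from rfl, hT]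
    push_cast
    field_simp
    ring
  set C := Nat.card (Subgroup.centralizer ({j} : Set G)) with hC
  set I := (Subgroup.centralizer ({j} : Set G)).index with hI
  have hCI : C * I = p * 2 ^ b * d := by
    rw [hC, hI, Subgroup.card_mul_index, H.card, S.q_two]
  have hdiv : (2 : ℤ) ^ b ∣ T := by
    have h1 := H.classConst_eq hreg hreg (i := ((1 : (ZMod p)ˣ) : ZMod p)) (Units.ne_zero _)
    rw [hrel, neg_neg] at h1
    set c := classConst j j (D.xp ((1 : (ZMod p)ˣ) : ZMod p))
    have hCC : (C : ℂ) ≠ 0 := Nat.cast_ne_zero.mpr Nat.card_pos.ne'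
    have hIC : (I : ℂ) ≠ 0 := Nat.cast_ne_zero.mpr Subgroup.index_ne_zero_of_finite
    have hG : (Nat.card G : ℂ) = (C : ℂ) * I := by
      exact_mod_cast (Subgroup.centralizer ({j} : Set G)).card_mul_index.symm
    rw [hG, ← hI] at h1
    have h2 : (((c : ℤ) * C * d : ℤ) : ℂ) = ((I * T : ℤ) : ℂ) := by
      push_cast
      rw [h1]
      field_simp
    have h3 : (c : ℤ) * C * d = I * T := by exact_mod_cast h2
    have hcop : Nat.Coprime (2 ^ b) I := Nat.Coprime.pow_left b (Nat.coprime_two_left.mpr hodd)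
    have h4 : 2 ^ b ∣ C := hcop.dvd_of_dvd_mul_right (by rw [hCI]; exact dvd_mul_of_dvd_left (dvd_mul_left _ _) _)
    have h5 : (2 : ℤ) ^ b ∣ (I : ℤ) * T := by
      rw [← h3]
      refine dvd_mul_of_dvd_left (dvd_mul_of_dvd_right ?_ _) _
      exact_mod_cast h4
    have h6 : IsCoprime ((2 : ℤ) ^ b) (I : ℤ) := by
      have := Nat.Coprime.isCoprime hcop
      push_cast at this
      exact this
    exact h6.dvd_of_dvd_mul_left h5
  have hTpos : 0 < T := by
    have h1 : 0 ≤ y * y := mul_self_nonneg y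
    have h2 : 0 ≤ ∑ f ∈ S.X, x f * x f := Finset.sum_nonneg fun f _ => mul_self_nonneg _
    omega
  have hTle := Int.le_of_dvd hTpos hdiv
  have horder : e * (n * p + 1) = 2 ^ b * d := S.q_two ▸ H.order_eq
  have hpm := S.p_eq
  rcases S.e_cases with he2 | ⟨he4, h2e, hde⟩
  · have hX0 : S.X = ∅ := by
      have := S.card_X
      exact Finset.card_eq_zero.mp (by omega)
    rw [hX0, Finset.sum_empty] at hyrel
    rw [hT, hX0, Finset.sum_empty, hyrel] at hTle
    have h1 : (2 : ℤ) ^ b ≤ (p : ℤ) - 1 := by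
      refine hTle.trans ?_
      omega
    have h2 : 2 ^ b ≤ p - 1 := by
      have : ((2 ^ b : ℕ) : ℤ) ≤ ((p - 1 : ℕ) : ℤ) := by
        push_cast [Nat.cast_sub (show 1 ≤ p by omega)]
        exact h1
      exact_mod_cast this
    have h3 : 2 * (n * p + 1) ≤ (p - 1) * d := by
      have h4 : e * (n * p + 1) ≤ (p - 1) * d := horder ▸ Nat.mul_le_mul_right d h2
      have h5 : e * (n * p + 1) = 2 * (n * p + 1) := congrArg (· * (n * p + 1)) he2
      omega
    have h6 : (p - 1) * d ≤ p * d := Nat.mul_le_mul_right d (Nat.sub_le p 1)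
    have h7 : 2 * n * p < p * d := by
      have : 2 * (n * p) = 2 * n * p := (mul_assoc 2 n p).symm
      omega
    have h8 : 2 * n < d := Nat.lt_of_mul_lt_mul_left (a := p) (by rwa [mul_comm p (2 * n)])
    omega
  · have hXc := S.card_X
    have hTub : T ≤ (d : ℤ) + (d : ℤ) * d + ((e : ℤ) - 2) * ((d : ℤ) * d) := by
      have h1 : ∑ f ∈ S.X, x f * x f ≤ (S.X.card : ℤ) * ((d : ℤ) * d) := by
        have := Finset.sum_le_card_nsmul S.X (fun f => x f * x f) ((d : ℤ) * d) hx2
        rwa [nsmul_eq_mul] at this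
      have h2 : (2 : ℤ) * S.X.card = (e : ℤ) - 2 := by omega
      rw [hT, ← h2]
      linarith
    have hm : 2 ^ S.m = 2 * e := by omega
    -- the congruence
    have hdiv2 : p ∣ 2 ^ b + 1 := by
      have h1 : 2 ^ b * (p + 1) = (p - 1) * (n * p + 1) := by
        rw [show p + 1 = 2 * d by omega, show p - 1 = 2 * e by omega, mul_assoc 2 e, horder]
        ring
      obtain ⟨r, hr⟩ : ∃ r, p = r + 1 := ⟨p - 1, by omega⟩
      have h2 : (2 ^ b + 1) + 2 ^ b * p = p * (n * r + 1) := by
        have h3 : (r + 1 - 1) * (n * (r + 1) + 1) = r * (n * (r + 1) + 1) := by rw [Nat.add_sub_cancel]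
        subst hr
        rw [h3] at h1
        linear_combination h1
      exact (Nat.dvd_add_left (dvd_mul_left p (2 ^ b))).mp (h2 ▸ dvd_mul_right p _)
    have hub : (2 : ℤ) ^ b < (2 : ℤ) ^ (3 * S.m) := by
      have h1 : ((2 : ℤ) ^ S.m) = 2 * (e : ℤ) := by exact_mod_cast hm
      rw [mul_comm 3, pow_mul, h1]
      have h2 : (d : ℤ) = e + 1 := by exact_mod_cast hde
      have h3 : (4 : ℤ) ≤ e := by exact_mod_cast he4
      refine lt_of_le_of_lt (hTle.trans hTub) ?_
      rw [h2]
      nlinarith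
    have hbm : b < 3 * S.m := by
      by_contra hh
      exact absurd hub (not_lt.mpr (pow_le_pow_right₀ (by norm_num) (by omega)))
    have hb_eq : b = S.m := by
      have hP : ∀ r, 0 < r → r < S.m → ¬ p ∣ 2 ^ r + 1 ∧ ¬ p ∣ 2 ^ r - 1 := by
        intro r hr0 hr
        have h1 : 2 * 2 ^ r ≤ 2 ^ S.m := by
          rw [← pow_succ']
          exact Nat.pow_le_pow_right two_pos (by omega)
        have h2 : 2 ≤ 2 ^ r := Nat.le_self_pow hr0.ne' 2
        exact ⟨fun h => by have := Nat.le_of_dvd (Nat.succ_pos _) h; omega,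
          fun h => by have := Nat.le_of_dvd (by omega) h; omega⟩
      have hmul : ∀ k, p * k = 2 ^ S.m * k + k := fun k =>
        (congrArg (· * k) hpm).trans (by ring)
      have h20 : ¬ p ∣ 2 := fun h => by have := Nat.le_of_dvd two_pos h; omega
      rcases Nat.lt_or_ge b S.m with h | h
      · exact absurd hdiv2 (hP b hb h).1
      obtain ⟨r, hr⟩ : ∃ r, b = S.m + r := ⟨b - S.m, by omega⟩
      suffices r = 0 by omega
      replace hdiv2 : p ∣ 2 ^ (S.m + r) + 1 := by
        obtain ⟨v, hv⟩ := hdiv2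
        exact ⟨v, by rw [← hv]; exact congrArg (fun k => 2 ^ k + 1) hr.symm⟩
      replace hbm : S.m + r < 3 * S.m := by omega
      rcases Nat.lt_or_ge r S.m with h' | h'
      · rcases Nat.eq_zero_or_pos r with rfl | hr0
        · rfl
        · exfalso
          refine (hP r hr0 h').2 ?_
          have h2 : 2 ^ (S.m + r) + 1 + (2 ^ r - 1) = p * 2 ^ r := by
            have := Nat.one_le_two_pow (n := r)
            rw [pow_add, hmul]
            omega
          exact (Nat.dvd_add_right hdiv2).mp (h2 ▸ dvd_mul_right p _)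
      · exfalso
        obtain ⟨s, rfl⟩ : ∃ s, r = S.m + s := ⟨r - S.m, by omega⟩
        have h2 : 2 ^ (S.m + (S.m + s)) + 1 + 2 ^ S.m * 2 ^ s = p * (2 ^ S.m * 2 ^ s) + 1 := by
          rw [pow_add, pow_add, hmul]
          ring
        have h3 : 2 ^ (S.m + (S.m + s)) + 1 + p * 2 ^ s = p * (2 ^ S.m * 2 ^ s) + (2 ^ s + 1) := by
          have h4 : p * 2 ^ s = 2 ^ S.m * 2 ^ s + 2 ^ s := hmul _
          omega
        have h5 : p ∣ 2 ^ s + 1 := (Nat.dvd_add_right (dvd_mul_right p _)).mp
          (h3 ▸ Nat.dvd_add hdiv2 (dvd_mul_right p _))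
        rcases Nat.eq_zero_or_pos s with rfl | hs0
        · exact h20 h5
        · exact (hP s hs0 (by omega)).1 h5
    have h1 : n * p + 1 = 2 * (e + 1) := by
      refine Nat.eq_of_mul_eq_mul_left H.small.e_pos ?_
      rw [horder, hb_eq, hm, hde]
      ring
    have h2 : n * p = 1 * p := by omega
    have h3 : n = 1 := Nat.eq_of_mul_eq_mul_right (by omega) h2
    omega

end CfsgLib.Char.FewSylow.QPower
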