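import Cfsg.Agent.Lib.Char.FewSylow.QPower.Plus
import Cfsg.Agent.Lib.Char.FewSylow.QPower.Minus

/-!
# Simple groups of order `p qᵇ g₀` with `g₀ < p - 1`
-/

set_option autoImplicit false
set_option linter.unusedSectionVars false
set_option linter.style.haveILetI false

namespace CfsgLib.Char.FewSylow.QPower

open Cfsg CfsgLib.Char CfsgLib.Block CfsgLib.Block.Cyclic CfsgLib.Char.FewSylow

universe u

/-- The classification, with the form of `p`. -/
theorem classify {G : Type u} [Group G] [Finite G] [IsSimpleGroup G] (hG : ¬ IsCyclic G) {p : ℕ}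
    [Fact p.Prime] {q b g₀ : ℕ} (hq : q.Prime) (hqp : q ≠ p) (hcard : Nat.card G = p * q ^ b * g₀)
    (hg : g₀ < p - 1) :
    Concl p G ∧ ∃ m, p = 2 ^ m + 1 ∨ p = 2 ^ m - 1 := by
  classical
  let _ : Fintype G := Fintype.ofFinite G
  have hg0 : g₀ ≠ 0 := fun h => Nat.card_pos.ne' (by rw [hcard, h, mul_zero])
  obtain ⟨a, g₁, hg₁, hga⟩ := Nat.exists_eq_pow_mul_and_not_dvd hg0 q hq.ne_one
  have hg₁le : g₁ ≤ g₀ := by
    rw [hga]
    exact Nat.le_mul_of_pos_left _ (pow_pos hq.pos _)
  obtain ⟨D, iK, n, e, ⟨H⟩⟩ := exists_qData hG (g₀ := g₁) (b := b + a) hq hqp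
    (by rw [hcard, hga, pow_add]; ring) (by omega) hg₁
  let _ : Fintype D.K := iK
  let _ : Fintype (norm D) := Fintype.ofFinite _
  have := Fintype.ofFinite (IrrCharacter G)
  have hperf := perfect_of_simple hG
  have hn := H.small.one_le hperf
  rcases H.E.sign with hd | hd
  · obtain ⟨S⟩ := H.exists_plusShape hd hperf
    refine ⟨H.small.classify hperf (few_of_plus hperf S hn), S.m, Or.inr ?_⟩
    have := S.p_eq
    omega
  · obtain ⟨S⟩ := H.exists_minusShape hd hperf
    exact ⟨H.small.classify hperf (few_of_minus hperf S hn), S.m, Or.inl S.p_eq⟩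

end CfsgLib.Char.FewSylow.QPower
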