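import Cfsg.Agent.Lib.Char.FewSylow.QPower.Facts

/-!
# Sign `-`: the arithmetic

`q = 2`, `p = 2ᵐ + 1`, and `e = 2` or `e = (p - 1)/2`.
-/

set_option autoImplicit false
set_option linter.unusedSectionVars false
set_option linter.style.haveILetI false

namespace CfsgLib.Char.FewSylow.QPower

open Cfsg CfsgLib.Char CfsgLib.Block CfsgLib.Block.Cyclic CfsgLib.Char.FewSylow

universe u

variable {p : ℕ} [Fact p.Prime] {G : Type u} [Group G] [Fintype G] [DecidableEq G]
  {D : CycSetup p G} [Fintype D.K] {n e q b d : ℕ}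

namespace QData

variable (H : QData D n e q b d)
include H

theorem minus_eq (hd : H.E.δ = -1) : d + e = p ∧ p ≤ 2 * d + 1 := by
  rcases H.shape with ⟨h1, -, -⟩ | ⟨-, h1, h2⟩
  · rw [hd] at h1; exact absurd h1 (by decide)
  · exact ⟨h1, h2⟩

/-- The other characters of the block have degree divisible by `q`. -/
theorem dvd_deg_other (hperf : commutator G = ⊤) {f : IrrCharacter G} (hf : f ≠ Block.oneChar G)
    (hu : H.E.u f ≠ 0) : q ∣ deg f := by
  by_contra hq
  have h1 := (((H.prime_q.coprime_iff_not_dvd.mpr hq).symm).pow_right b).dvd_of_dvd_mul_left (H.dvd_deg_u hu)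
  have h2 := Nat.le_of_dvd (by have := H.d_two; omega) h1
  have h3 := H.deg_u hu
  have h4 : deg f ≠ 1 := fun h => hf (hlin_of_perfect hperf h)
  have := deg_pos f
  have := H.d_lt
  have h5 : (p : ℤ) ∣ (deg f : ℤ) + H.E.u f := ⟨(fx D f : ℤ) + H.E.u f, by rw [h3]; ring⟩
  rcases H.E.u_cases f with hz | hz | hz
  · exact hu hz
  · rw [hz] at h5; have := Int.le_of_dvd (by omega) h5; omega
  · rw [hz] at h5; have := Int.le_of_dvd (by omega) h5; omega

theorem relation_others [Fintype (IrrCharacter G)] [DecidableEq (IrrCharacter G)] (hd : H.E.δ = -1) :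
    ∑ f ∈ Finset.univ.erase (Block.oneChar G), H.E.u f * (deg f : ℤ) = 1 + d := by
  have h1 := H.relation_one
  rw [← Finset.add_sum_erase _ _ (Finset.mem_univ (Block.oneChar G)), H.u_one, deg_one, hd] at h1
  push_cast at h1
  linarith

theorem coprime_e_d (hd : H.E.δ = -1) : Nat.Coprime e d := by
  have h1 := (H.minus_eq hd).1
  have h2 : Nat.Coprime p e := (Fact.out : p.Prime).coprime_iff_not_dvd.mpr H.small.not_dvd_e
  rw [← h1, Nat.coprime_add_self_left] at h2
  exact h2.symm

theorem minus_basic (hd : H.E.δ = -1) (hperf : commutator G = ⊤) :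
    q = 2 ∧ Odd d ∧ ∃ c, e = 2 ^ c := by
  classical
  have := Fintype.ofFinite (IrrCharacter G)
  obtain ⟨hde, -⟩ := H.minus_eq hd
  have hq1 : (q : ℤ) ∣ 1 + d := by
    rw [← H.relation_others hd]
    refine Finset.dvd_sum fun f hf => ?_
    by_cases hu : H.E.u f = 0
    · simp [hu]
    · exact dvd_mul_of_dvd_right (Int.natCast_dvd_natCast.mpr
        (H.dvd_deg_other hperf (Finset.mem_erase.mp hf).1 hu)) _
  have heq : e ∣ q ^ b :=
    (H.coprime_e_d hd).dvd_of_dvd_mul_right (by rw [← H.order_eq]; exact dvd_mul_right _ _)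
  obtain ⟨c, -, hc⟩ := (Nat.dvd_prime_pow H.prime_q).mp heq
  have hc0 : c ≠ 0 := fun h => by
    rw [h, pow_zero] at hc
    have := H.two_le
    omega
  have hqe : q ∣ e := hc ▸ dvd_pow_self q hc0
  have h2 : q ∣ 2 := by
    have h3 : q ∣ p - 1 := hqe.trans H.small.e_dvd
    have h4 : q ∣ 1 + d := by exact_mod_cast hq1
    have h5 : q ∣ p + 1 := by
      rw [show p + 1 = 1 + d + e by omega]
      exact Nat.dvd_add h4 hqe
    have h6 := Nat.dvd_sub h5 h3
    rwa [show p + 1 - (p - 1) = 2 by have := (Fact.out : p.Prime).two_le; omega] at h6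
  have hq2 : q = 2 := (Nat.prime_dvd_prime_iff_eq H.prime_q Nat.prime_two).mp h2
  refine ⟨hq2, ?_, c, hq2 ▸ hc⟩
  rw [← Nat.not_even_iff_odd, even_iff_two_dvd, ← hq2]
  exact H.not_dvd

theorem even_deg_other (hd : H.E.δ = -1) (hperf : commutator G = ⊤) {f : IrrCharacter G}
    (hf : f ≠ Block.oneChar G) (hu : H.E.u f ≠ 0) : 2 ∣ deg f :=
  (H.minus_basic hd hperf).1 ▸ H.dvd_deg_other hperf hf hu

/-- `p` is a Fermat prime and `e` is `2` or `(p - 1)/2`. -/
theorem minus_arith [Fintype (IrrCharacter G)] (hd : H.E.δ = -1) (hperf : commutator G = ⊤) :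
    ∃ m, p = 2 ^ m + 1 ∧ (e = 2 ∨ (4 ≤ e ∧ 2 * e = p - 1 ∧ d = e + 1)) := by
  classical
  obtain ⟨hde, hhalf⟩ := H.minus_eq hd
  obtain ⟨hq, hdodd, c, hc⟩ := H.minus_basic hd hperf
  have hp := (Fact.out : p.Prime).two_le
  have hd2 := H.d_two
  have hdlt := H.d_lt
  have he := H.two_le
  have hrel := H.relation_others hd
  by_cases he2 : e = 2
  · -- a single further character
    have hcard := H.card_support.trans he2
    obtain ⟨a, a', hne, hset⟩ := Finset.card_eq_two.mp hcard
    have hone : Block.oneChar G ∈ ({a, a'} : Finset (IrrCharacter G)) :=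
      hset ▸ Finset.mem_filter.mpr ⟨Finset.mem_univ _, by rw [H.u_one]; decide⟩
    obtain ⟨f, hf1, hfu, honly⟩ : ∃ f, f ≠ Block.oneChar G ∧ H.E.u f ≠ 0 ∧
        ∀ g, g ≠ Block.oneChar G → H.E.u g ≠ 0 → g = f := by
      have hmem : ∀ g, H.E.u g ≠ 0 ↔ g = a ∨ g = a' := fun g => by
        have := Finset.ext_iff.mp hset g
        simp only [Finset.mem_filter, Finset.mem_univ, true_and, Finset.mem_insert, Finset.mem_singleton] at this
        exact this
      rcases Finset.mem_insert.mp hone with rfl | h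
      · exact ⟨a', hne.symm, (hmem a').mpr (Or.inr rfl), fun g hg hu => ((hmem g).mp hu).resolve_left hg⟩
      · rw [Finset.mem_singleton] at h
        subst h
        exact ⟨a, hne, (hmem a).mpr (Or.inl rfl), fun g hg hu => ((hmem g).mp hu).resolve_right hg⟩
    rw [Finset.sum_eq_single f (fun g hg hgf => by
      have : H.E.u g = 0 := by
        by_contra hu
        exact hgf (honly g (Finset.mem_erase.mp hg).1 hu)
      rw [this, zero_mul]) (fun h => absurd (Finset.mem_erase.mpr ⟨hf1, Finset.mem_univ _⟩) h)] at hrel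
    have hpos : (0 : ℤ) < deg f := by exact_mod_cast deg_pos f
    have hu1 : H.E.u f = 1 := by
      rcases H.E.u_cases f with h | h | h
      · exact absurd h hfu
      · exact h
      · rw [h] at hrel; omega
    rw [hu1, one_mul] at hrel
    have hdeg : deg f = p - 1 := by omega
    have hdvd := H.dvd_deg_u hfu
    rw [hdeg, hq] at hdvd
    have hcop : Nat.Coprime (p - 1) d := by
      rw [show p - 1 = 1 + d by omega, Nat.coprime_add_self_left]
      exact Nat.coprime_one_left d
    obtain ⟨m, -, hm⟩ := (Nat.dvd_prime_pow Nat.prime_two).mp (hcop.dvd_of_dvd_mul_right hdvd)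
    exact ⟨m, by omega, Or.inl he2⟩
  · have hc2 : 2 ≤ c := by
      by_contra h
      have : 2 ^ c ≤ 2 ^ 1 := Nat.pow_le_pow_right two_pos (by omega)
      omega
    have h4e : 4 ∣ e := hc ▸ (pow_dvd_pow 2 hc2 : 2 ^ 2 ∣ 2 ^ c)
    have hep := H.small.e_dvd
    have h4p : 4 ∣ p - 1 := h4e.trans hep
    obtain ⟨f, hf1, hfu, hf4⟩ : ∃ f, f ≠ Block.oneChar G ∧ H.E.u f ≠ 0 ∧ ¬ 4 ∣ deg f := by
      by_contra hall
      push Not at hall
      have h1 : (4 : ℤ) ∣ 1 + d := by
        rw [← hrel]
        refine Finset.dvd_sum fun f hf => ?_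
        by_cases hu : H.E.u f = 0
        · simp [hu]
        · exact dvd_mul_of_dvd_right
            (Int.natCast_dvd_natCast.mpr (hall f (Finset.mem_erase.mp hf).1 hu)) _
      have h2 : 4 ∣ 1 + d := by exact_mod_cast h1
      omega
    obtain ⟨g, hg⟩ := H.even_deg_other hd hperf hf1 hfu
    have hgodd : ¬ 2 ∣ g := fun h => hf4 (by rw [hg]; exact Nat.mul_dvd_mul_left 2 h)
    have hgd : g ∣ d := by
      have h1 : g ∣ 2 ^ b * d := (dvd_mul_left g 2).trans (hg ▸ hq ▸ H.dvd_deg_u hfu)
      exact (((Nat.prime_two.coprime_iff_not_dvd.mpr hgodd).symm).pow_right b).dvd_of_dvd_mul_left h1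
    have hgle := Nat.le_of_dvd (by omega) hgd
    have hdegf := H.deg_u hfu
    have hd1 : deg f ≠ 1 := fun h => hf1 (hlin_of_perfect hperf h)
    have hpos := deg_pos f
    have hgval : 2 * g = p - 1 ∨ 2 * g = p + 1 := by
      rcases H.E.u_cases f with h | h | h
      · exact absurd h hfu
      · rw [h] at hdegf
        refine Or.inl ?_
        rcases Nat.eq_zero_or_pos (fx D f) with h0 | h0
        · rw [h0] at hdegf; push_cast at hdegf; omega
        · have : (p : ℤ) * 1 ≤ p * (fx D f : ℤ) := mul_le_mul_of_nonneg_left (by exact_mod_cast h0) (by omega)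
          omega
      · rw [h] at hdegf
        refine Or.inr ?_
        rcases lt_trichotomy (fx D f) 2 with h0 | h0 | h0
        · have : (p : ℤ) * (fx D f : ℤ) ≤ p * 1 := mul_le_mul_of_nonneg_left (by omega) (by omega)
          omega
        · rw [h0] at hdegf; push_cast at hdegf; omega
        · have : (p : ℤ) * 3 ≤ p * (fx D f : ℤ) := mul_le_mul_of_nonneg_left (by omega) (by omega)
          omega
    obtain ⟨k, hk⟩ := hgd
    have hk1 : k = 1 := by
      by_contra hne
      have hk2 : 2 ≤ k := by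
        rcases Nat.eq_zero_or_pos k with rfl | h
        · omega
        · omega
      have : g * 2 ≤ g * k := Nat.mul_le_mul_left g hk2
      omega
    rw [hk1, mul_one] at hk
    have h2e : 2 * e = p - 1 := by
      rcases hgval with h | h
      · have h1 : e ∣ p + 1 := ⟨2, by omega⟩
        have h2 := Nat.dvd_sub h1 hep
        rw [show p + 1 - (p - 1) = 2 by omega] at h2
        have := Nat.le_of_dvd two_pos h2
        omega
      · omega
    exact ⟨c + 1, by rw [pow_succ, ← hc]; omega, Or.inr ⟨by omega, h2e, by omega⟩⟩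

end QData

end CfsgLib.Char.FewSylow.QPower
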