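import Cfsg.Agent.Lib.Char.FewSylow.QPower.MinusArith

/-!
# Sign `-`: the principal block

Products of two exceptional characters show that, apart from the trivial character, there are
`e/2 - 1` characters of degree `p + 1` and `e/2` of degree `p - 1`.
-/

set_option autoImplicit false
set_option linter.unusedSectionVars false
set_option linter.style.haveILetI false

open scoped ComplexConjugate

namespace CfsgLib.Char.FewSylow.QPower

open Cfsg CfsgLib.Char CfsgLib.Block CfsgLib.Block.Cyclic CfsgLib.Char.FewSylow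

universe u

variable {p : ℕ} [Fact p.Prime] {G : Type u} [Group G] [Fintype G] [DecidableEq G]
  {D : CycSetup p G} [Fintype D.K] {n e q b d : ℕ}

/-- The shape of the block for sign `-`. -/
structure MinusShape (H : QData D n e q b d) [Fintype (IrrCharacter G)] where
  X : Finset (IrrCharacter G)
  Z : Finset (IrrCharacter G)
  delta : H.E.δ = -1
  q_two : q = 2
  m : ℕ
  p_eq : p = 2 ^ m + 1
  e_cases : e = 2 ∨ (4 ≤ e ∧ 2 * e = p - 1 ∧ d = e + 1)
  sum_u : ∀ F : IrrCharacter G → ℂ, ∑ f : IrrCharacter G, (H.E.u f : ℂ) * F f =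
    -F (Block.oneChar G) - ∑ f ∈ X, F f + ∑ f ∈ Z, F f
  card_X : 2 * X.card + 2 = e
  X_deg : ∀ f ∈ X, deg f = 2 * d
  Z_deg : ∀ f ∈ Z, deg f = 2 ^ m

theorem fixd_mul_conj (h : Small D n e) (f g : IrrCharacter G) :
    fixd D (fun x => (f : G → ℂ) x * conj ((g : G → ℂ) x)) =
      ((∑ j : ZMod p, D.multN f j * D.multN g j : ℕ) : ℂ) := by
  classical
  have hv : ∀ (χ : IrrCharacter G) (i : ZMod p),
      (χ : G → ℂ) (D.xp i) = ∑ j : ZMod p, stdPsi p (i * j) * D.multN χ j := by
    intro χ i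
    rw [← h.dval_eq (χ : G → ℂ) i, D.dval_eq_sum_mult]
    simp only [D.mult_eq]
  rw [fixd]
  simp only [hv, map_sum, map_mul, map_natCast, conj_stdPsi, Finset.sum_mul_sum]
  rw [Finset.sum_comm, Finset.mul_sum, Nat.cast_sum]
  refine Finset.sum_congr rfl fun j _ => ?_
  rw [Finset.sum_comm, Finset.sum_congr rfl fun k _ => Finset.sum_congr rfl
    (g := fun i => (D.multN f j : ℂ) * D.multN g k * stdPsi p (i * (j - k))) fun i _ => by
      rw [show i * (j - k) = i * j + -(i * k) by ring, AddChar.map_add_eq_mul]; ring]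
  simp only [← Finset.mul_sum, sum_stdPsi_mul, sub_eq_zero, mul_ite, mul_zero, Finset.sum_ite_eq,
    Finset.mem_univ, if_true]
  push_cast
  field_simp [p_cast_ne_zero (p := p)]

theorem sum_u_of_support [Fintype (IrrCharacter G)] [DecidableEq (IrrCharacter G)]
    (H : QData D n e q b d) {X Z : Finset (IrrCharacter G)} (hdisj : Disjoint X Z)
    (hone : Block.oneChar G ∉ X ∪ Z) (hX : ∀ f ∈ X, H.E.u f = -1) (hZ : ∀ f ∈ Z, H.E.u f = 1)
    (hcard : X.card + Z.card + 1 = e) (F : IrrCharacter G → ℂ) :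
    ∑ f : IrrCharacter G, (H.E.u f : ℂ) * F f =
      -F (Block.oneChar G) - ∑ f ∈ X, F f + ∑ f ∈ Z, F f := by
  classical
  have hsupp : insert (Block.oneChar G) (X ∪ Z) = Finset.univ.filter fun f => H.E.u f ≠ 0 := by
    refine Finset.eq_of_subset_of_card_le (fun f hf => ?_) ?_
    · refine Finset.mem_filter.mpr ⟨Finset.mem_univ _, ?_⟩
      rcases Finset.mem_insert.mp hf with rfl | hf
      · rw [H.u_one]; decide
      rcases Finset.mem_union.mp hf with hf | hf
      · rw [hX f hf]; decide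
      · rw [hZ f hf]; decide
    · rw [H.card_support, Finset.card_insert_of_notMem hone, Finset.card_union_of_disjoint hdisj]
      omega
  rw [← Finset.sum_subset (Finset.subset_univ (Finset.univ.filter fun f => H.E.u f ≠ 0)) fun f _ hf => by
      rw [Finset.mem_filter, not_and, not_not] at hf
      rw [hf (Finset.mem_univ _), Int.cast_zero, zero_mul],
    ← hsupp, Finset.sum_insert hone, Finset.sum_union hdisj, H.u_one,
    Finset.sum_congr rfl fun f (hf : f ∈ X) => show (H.E.u f : ℂ) * F f = -F f by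
      rw [hX f hf, Int.cast_neg, Int.cast_one, neg_one_mul],
    Finset.sum_congr rfl fun f (hf : f ∈ Z) => show (H.E.u f : ℂ) * F f = F f by
      rw [hZ f hf, Int.cast_one, one_mul], Finset.sum_neg_distrib]
  push_cast
  ring

namespace QData

variable (H : QData D n e q b d)
include H

theorem fx_Y_minus (hd : H.E.δ = -1) (k : (ZMod p)ˣ ⧸ D.expE) : fx D (H.E.Y k) = 1 := by
  rw [H.fx_Y, if_neg (by rw [hd]; decide)]

theorem multN_Y_minus (hd : H.E.δ = -1) (k : (ZMod p)ˣ ⧸ D.expE) (j : (ZMod p)ˣ)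
    [Decidable (k = (j : (ZMod p)ˣ ⧸ D.expE))] :
    (D.multN (H.E.Y k) j : ℤ) = if k = (j : (ZMod p)ˣ ⧸ D.expE) then 0 else 1 := by
  have h1 := H.E.vec_Y k j
  rw [hd, CycSetup.vec, show D.multN (H.E.Y k) 0 = 1 from H.fx_Y_minus hd k] at h1
  split_ifs at h1 ⊢ with hk <;> push_cast at h1 <;> omega

/-- Outside the subgroup of the normalizer an exceptional character has absolute value one. -/
theorem abs_Y_minus [Fintype (norm D)] (hd : H.E.δ = -1) (k : (ZMod p)ˣ ⧸ D.expE) {g : G}
    (hg : g ∈ norm D) (hgQ : g ∉ D.Q) :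
    (H.E.Y k : G → ℂ) g * conj ((H.E.Y k : G → ℂ) g) = 1 := by
  classical
  have h1 := H.small.sum_mN (H.E.Y k)
  rw [H.fx_Y_minus hd k] at h1
  obtain ⟨μ₀, -, hμ₀⟩ := Finset.exists_ne_zero_of_sum_ne_zero (by rw [h1]; decide :
    ∑ μ, H.small.mN (H.E.Y k) μ ≠ 0)
  have h2 := Finset.add_sum_erase Finset.univ (fun μ => H.small.mN (H.E.Y k) μ) (Finset.mem_univ μ₀)
  simp only [h1] at h2
  have h3 : ∀ μ, μ ≠ μ₀ → H.small.mN (H.E.Y k) μ = 0 := fun μ hμ =>
    Finset.sum_eq_zero_iff.mp (show ∑ μ ∈ Finset.univ.erase μ₀, H.small.mN (H.E.Y k) μ = 0 by omega) μ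
      (Finset.mem_erase.mpr ⟨hμ, Finset.mem_univ _⟩)
  have h4 := H.small.sum_mult_of_notMem (isClassFunction_irr (H.E.Y k)) (g := ⟨g, hg⟩) hgQ
  simp only [H.small.mult_mN] at h4
  rw [Finset.sum_eq_single μ₀ (fun μ _ hμ => by rw [h3 μ hμ, Nat.cast_zero, zero_mul])
    (fun h => absurd (Finset.mem_univ _) h), show H.small.mN (H.E.Y k) μ₀ = 1 by omega, Nat.cast_one,
    one_mul] at h4
  rw [← h4, BSW.dual_conj, ← Units.val_mul, ← map_mul, mul_inv_cancel, map_one, Units.val_one]

theorem fixd_normSq_Y (hd : H.E.δ = -1) (h2e : 2 * e = p - 1) (k : (ZMod p)ˣ ⧸ D.expE) :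
    fixd D (fun g => (H.E.Y k : G → ℂ) g * conj ((H.E.Y k : G → ℂ) g)) = (e : ℂ) + 1 := by
  classical
  rw [H.small.fixd_normSq, sum_zmod_split (fun j : ZMod p => D.multN (H.E.Y k) j * D.multN (H.E.Y k) j),
    show D.multN (H.E.Y k) 0 = 1 from H.fx_Y_minus hd k]
  have h1 : ∑ j : (ZMod p)ˣ, ((D.multN (H.E.Y k) j * D.multN (H.E.Y k) j : ℕ) : ℤ) = (e : ℤ) := by
    have h2 : ∀ j : (ZMod p)ˣ, ((D.multN (H.E.Y k) j * D.multN (H.E.Y k) j : ℕ) : ℤ) =
        1 - if k = (j : (ZMod p)ˣ ⧸ D.expE) then 1 else 0 := fun j => by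
      rw [Nat.cast_mul, H.multN_Y_minus hd k j]
      split_ifs <;> norm_num
    rw [Finset.sum_congr rfl fun j _ => h2 j, Finset.sum_sub_distrib, Finset.sum_boole, coset_card,
      H.small.card_expE, Finset.sum_const, Finset.card_univ, ZMod.card_units_eq_totient,
      Nat.totient_prime (Fact.out : p.Prime), ← h2e, nsmul_one]
    push_cast
    ring
  have h3 : ∑ j : (ZMod p)ˣ, D.multN (H.E.Y k) j * D.multN (H.E.Y k) j = e := by exact_mod_cast h1
  rw [h3]
  push_cast
  ring

theorem mult_normSq_Y [Fintype (norm D)] (hd : H.E.δ = -1) (h2e : 2 * e = p - 1)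
    (k : (ZMod p)ˣ ⧸ D.expE) (μ : D.expE →* ℂˣ) [Decidable (μ = 1)] :
    H.small.mult (fun g => (H.E.Y k : G → ℂ) g * conj ((H.E.Y k : G → ℂ) g)) μ =
      (if μ = 1 then 1 else 0) + 1 := by
  classical
  set f₀ : G → ℂ := fun g => 1 + if g ∈ D.Q then (e : ℂ) else 0 with hf₀
  have hfix : fixd D f₀ = (e : ℂ) + 1 := by
    simp only [fixd, hf₀, if_pos (D.xp_mem _), Finset.sum_const, Finset.card_univ, ZMod.card, nsmul_eq_mul]
    have := p_cast_ne_zero (p := p)
    field_simp
    ring
  rw [H.small.mult_congr (f' := f₀) (fun g hg hgQ => by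
      rw [H.abs_Y_minus hd k hg hgQ, hf₀]
      simp [hgQ]) (by rw [H.fixd_normSq_Y hd h2e k, hfix]) μ,
    ← H.small.mult_one μ]
  have h1 : H.small.mult (fun g => if g ∈ D.Q then (e : ℂ) else 0) μ = 1 := by
    simp only [Small.mult, classInner]
    rw [Finset.sum_congr rfl (g := fun g : norm D => if H.small.act g = H.small.act 1 then (e : ℂ) else 0)
      fun g _ => ?_, ← Finset.sum_filter, H.small.sum_coset (fun _ => (e : ℂ)) 1, Finset.sum_const,
      Finset.card_univ, ZMod.card, nsmul_eq_mul, H.small.card_norm]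
    · have := p_cast_ne_zero (p := p)
      have : (e : ℂ) ≠ 0 := Nat.cast_ne_zero.mpr H.small.e_pos.ne'
      push_cast
      field_simp
    · by_cases hg : (g : G) ∈ D.Q
      · rw [if_pos hg, if_pos (((H.small.act_eq_one_iff g).mpr hg).trans (map_one _).symm), Small.lam,
          (H.small.act_eq_one_iff g).mpr hg, map_one, Units.val_one, map_one, mul_one]
      · rw [if_neg hg, zero_mul, if_neg fun h => hg ((H.small.act_eq_one_iff g).mp (h.trans (map_one _)))]
  refine Eq.trans ?_ (congrArg (fun x => H.small.mult (fun _ => (1 : ℂ)) μ + x) h1)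
  simp only [Small.mult, classInner, hf₀, add_mul, Finset.sum_add_distrib, mul_add]

theorem excess_minus (hd : H.E.δ = -1) (hperf : commutator G = ⊤) (h2e : 2 * e = p - 1) (hde : d = e + 1)
    {f : IrrCharacter G} (hf : f ≠ Block.oneChar G) :
    (2 * (deg f : ℤ) - ((p : ℤ) + 1) * fx D f = 0 ∧
        ((H.E.u f = -1 ∧ fx D f = 2 ∧ deg f = p + 1) ∨ ∃ k, H.E.Y k = f)) ∨
      (2 * (deg f : ℤ) - ((p : ℤ) + 1) * fx D f = 2 * (e : ℤ) ∧ H.E.u f = 0 ∧ (∀ k, H.E.Y k ≠ f) ∧
        fx D f = 1 ∧ deg f = p) ∨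
      2 * (e : ℤ) < 2 * (deg f : ℤ) - ((p : ℤ) + 1) * fx D f := by
  classical
  have he := H.two_le
  have hpe : (p : ℤ) = 2 * e + 1 := by omega
  have hpos : (0 : ℤ) < deg f := by exact_mod_cast deg_pos f
  have hfx0 : (0 : ℤ) ≤ fx D f := Int.natCast_nonneg _
  by_cases hu : H.E.u f = 0
  · by_cases hY : ∃ k, H.E.Y k = f
    · refine Or.inl ⟨?_, Or.inr hY⟩
      obtain ⟨k, rfl⟩ := hY
      rw [H.fx_Y_minus hd, H.deg_Y k]
      omega
    · push Not at hY
      have h1 := H.small.deg_eq_vec f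
      rw [Finset.sum_eq_zero fun j _ => by rw [H.E.vec_eq, hu, if_neg fun e => hY _ e.symm, mul_zero,
        add_zero], add_zero] at h1
      rcases Nat.lt_trichotomy (fx D f) 1 with h0 | h0 | h0
      · rw [show (fx D f : ℤ) = 0 by omega, mul_zero] at h1; omega
      · rw [h0, Nat.cast_one, mul_one] at h1
        refine Or.inr (Or.inl ⟨?_, hu, hY, h0, by exact_mod_cast h1⟩)
        rw [h0, h1, hpe]; push_cast; ring
      · refine Or.inr (Or.inr ?_)
        rw [h1, hpe]
        have : (2 : ℤ) ≤ fx D f := by exact_mod_cast h0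
        nlinarith
  · have h1 := H.deg_u hu
    rcases H.E.u_cases f with hz | hz | hz
    · exact absurd hz hu
    · refine Or.inr (Or.inr ?_)
      rw [h1, hz, hpe]
      nlinarith
    · rw [hz] at h1
      have hev := H.even_deg_other hd hperf hf hu
      have hd1 : (deg f : ℤ) ≠ 1 := fun h => hf (hlin_of_perfect hperf (by exact_mod_cast h))
      rcases Nat.lt_trichotomy (fx D f) 2 with h0 | h0 | h0
      · have : (p : ℤ) * fx D f ≤ p * 1 := mul_le_mul_of_nonneg_left (by omega) (by omega)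
        omega
      · refine Or.inl ⟨?_, Or.inl ⟨hz, h0, ?_⟩⟩
        · rw [h1, h0, hpe]; push_cast; ring
        · rw [h0] at h1; push_cast at h1; omega
      · have h4 : fx D f ≠ 3 := fun h3 => by
          rw [h3] at h1; push_cast at h1; omega
        refine Or.inr (Or.inr ?_)
        rw [h1, hpe]
        have : (4 : ℤ) ≤ fx D f := by omega
        nlinarith

/-- The norm square of an exceptional character. -/
theorem normSq_Y [Fintype (IrrCharacter G)] (hd : H.E.δ = -1) (hperf : commutator G = ⊤)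
    (h2e : 2 * e = p - 1) (hde : d = e + 1) (k : (ZMod p)ˣ ⧸ D.expE) :
    ∃ c : IrrCharacter G → ℕ, ∃ X : Finset (IrrCharacter G),
      classInner (fun g => (H.E.Y k : G → ℂ) g * conj ((H.E.Y k : G → ℂ) g))
        (fun g => (H.E.Y k : G → ℂ) g * conj ((H.E.Y k : G → ℂ) g)) =
        ((∑ f : IrrCharacter G, c f * c f : ℕ) : ℂ) ∧
      (∀ g, (H.E.Y k : G → ℂ) g * conj ((H.E.Y k : G → ℂ) g) =
        ∑ f : IrrCharacter G, (c f : ℂ) * (f : G → ℂ) g) ∧
      2 * X.card + 2 = e ∧ (∀ f ∈ X, H.E.u f = -1 ∧ deg f = p + 1 ∧ f ≠ Block.oneChar G) ∧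
      ∑ f : IrrCharacter G, c f * c f = X.card + 3 := by
  classical
  let _ : Fintype (norm D) := Fintype.ofFinite _
  set one := Block.oneChar G with hone
  have he := H.two_le
  have hψ : IsCharacter G (fun g => (H.E.Y k : G → ℂ) g * conj ((H.E.Y k : G → ℂ) g)) :=
    isCharacter_mul (isCharacter_irr _) (isCharacter_conj (isCharacter_irr _))
  obtain ⟨c, hexp, hc, hnorm⟩ := exists_coeff hψ
  have hc1 : c one = 1 := by
    have h1 := hc one
    have h2 : classInner (fun g => (H.E.Y k : G → ℂ) g * conj ((H.E.Y k : G → ℂ) g)) (one : G → ℂ) =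
        classInner (H.E.Y k : G → ℂ) (H.E.Y k : G → ℂ) := by
      show classInner _ (fun _ => 1) = _
      simp [classInner]
    rw [h2, classInner_irr_self] at h1
    exact_mod_cast h1.symm
  have hdeg : ∑ f : IrrCharacter G, c f * deg f = d * d := by
    have h1 := hexp 1
    simp only [val_one, H.deg_Y, map_natCast] at h1
    exact_mod_cast h1.symm
  have hfix : ∑ f : IrrCharacter G, c f * fx D f = e + 1 := by
    have h1 := fixd_sum_mul H.small hexp
    rw [H.fixd_normSq_Y hd h2e k] at h1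
    exact_mod_cast h1.symm
  have hmu : ∀ μ : D.expE →* ℂˣ,
      ∑ f ∈ Finset.univ.erase one, c f * H.small.mN f μ = 1 := by
    intro μ
    have h1 := H.mult_normSq_Y hd h2e k μ
    have h2 : H.small.mult (fun g => (H.E.Y k : G → ℂ) g * conj ((H.E.Y k : G → ℂ) g)) μ =
        ∑ f : IrrCharacter G, (c f : ℂ) * H.small.mult (f : G → ℂ) μ := by
      simp only [Small.mult, classInner, hexp, Finset.sum_mul, Finset.mul_sum]
      rw [Finset.sum_comm]
      exact Finset.sum_congr rfl fun f _ => Finset.sum_congr rfl fun g _ => by ring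
    rw [h2] at h1
    simp only [H.small.mult_mN] at h1
    have h3 : ∑ f : IrrCharacter G, c f * H.small.mN f μ = (if μ = 1 then 1 else 0) + 1 := by
      exact_mod_cast h1
    rw [← Finset.add_sum_erase _ _ (Finset.mem_univ one), hc1, one_mul, hone, H.small.mN_one] at h3
    rw [hone]
    split_ifs at h3 <;> omega
  have hmult : ∀ f, f ≠ one → c f ≠ 0 → fx D f ≠ 0 → c f = 1 := by
    intro f hf hcf hfx
    obtain ⟨μ, hμ⟩ : ∃ μ, H.small.mN f μ ≠ 0 := by
      by_contra hall
      push Not at hall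
      exact hfx ((H.small.sum_mN f).symm.trans (Finset.sum_eq_zero fun μ _ => hall μ))
    have h2 : c f * H.small.mN f μ ≤ 1 := by
      rw [← hmu μ]
      exact Finset.single_le_sum (f := fun g => c g * H.small.mN g μ) (fun _ _ => Nat.zero_le _)
        (Finset.mem_erase.mpr ⟨hf, Finset.mem_univ _⟩)
    have h3 : c f ≤ c f * H.small.mN f μ := Nat.le_mul_of_pos_right _ (Nat.pos_of_ne_zero hμ)
    omega
  -- the excess
  set ex : IrrCharacter G → ℤ := fun f => (c f : ℤ) * (2 * (deg f : ℤ) - ((p : ℤ) + 1) * fx D f) with hex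
  have hsum : ∑ f ∈ Finset.univ.erase one, ex f = 2 * (e : ℤ) := by
    have e1 : ∑ f : IrrCharacter G, ex f = 2 * ((d : ℤ) * d) - ((p : ℤ) + 1) * ((e : ℤ) + 1) := by
      have h1 : ((∑ f : IrrCharacter G, c f * deg f : ℕ) : ℤ) = (d : ℤ) * d := by exact_mod_cast hdeg
      have h2 : ((∑ f : IrrCharacter G, c f * fx D f : ℕ) : ℤ) = (e : ℤ) + 1 := by exact_mod_cast hfix
      push_cast at h1 h2
      rw [← h1, ← h2]
      simp only [hex, Finset.mul_sum, ← Finset.sum_sub_distrib]
      exact Finset.sum_congr rfl fun f _ => by ring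
    rw [← Finset.add_sum_erase _ _ (Finset.mem_univ one)] at e1
    have h3 : (p : ℤ) = 2 * e + 1 := by omega
    have h4 : (d : ℤ) = e + 1 := by exact_mod_cast hde
    have h5 : ex one = 2 - ((p : ℤ) + 1) := by
      simp only [hex]
      rw [hc1, hone, deg_one, H.small.fx_one]
      push_cast; ring
    rw [h5, h4, h3] at e1
    linarith
  have hcase := fun f (hf : f ≠ one) => H.excess_minus hd hperf h2e hde (f := f) hf
  have hnonneg : ∀ f ∈ Finset.univ.erase one, 0 ≤ ex f := fun f hf => by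
    refine mul_nonneg (Int.natCast_nonneg _) ?_
    rcases hcase f (Finset.mem_erase.mp hf).1 with ⟨h, -⟩ | ⟨h, -⟩ | h <;> omega
  obtain ⟨St, hSt, hSt0⟩ : ∃ f ∈ Finset.univ.erase one, ex f ≠ 0 :=
    Finset.exists_ne_zero_of_sum_ne_zero (by rw [hsum]; omega)
  have hSt1 := (Finset.mem_erase.mp hSt).1
  have hle : ex St ≤ 2 * (e : ℤ) := hsum ▸ Finset.single_le_sum hnonneg hSt
  have hcSt : c St ≠ 0 := fun h => hSt0 (by simp [hex, h])
  obtain ⟨hcSt1, hStE, hStu, hStY, hStfx, hStdeg⟩ : c St = 1 ∧ ex St = 2 * (e : ℤ) ∧ H.E.u St = 0 ∧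
      (∀ k', H.E.Y k' ≠ St) ∧ fx D St = 1 ∧ deg St = p := by
    rcases hcase St hSt1 with ⟨h, -⟩ | ⟨h, h2, h3, h4, h5⟩ | h
    · exact absurd (by simp only [hex, h, mul_zero]) hSt0
    · have h6 := hmult St hSt1 hcSt (by omega)
      refine ⟨h6, ?_, h2, h3, h4, h5⟩
      simp only [hex, h6, h, Nat.cast_one, one_mul]
    · exfalso
      have h6 : (1 : ℤ) * (2 * (deg St : ℤ) - ((p : ℤ) + 1) * fx D St) ≤ ex St :=
        mul_le_mul_of_nonneg_right (by exact_mod_cast Nat.one_le_iff_ne_zero.mpr hcSt) (by omega)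
      omega
  have hrest : ∀ f, f ≠ one → f ≠ St → c f ≠ 0 →
      (H.E.u f = -1 ∧ fx D f = 2 ∧ deg f = p + 1) ∨ ∃ k', H.E.Y k' = f := by
    intro f hf hfS hcf
    have h0 : ∑ g ∈ (Finset.univ.erase one).erase St, ex g = 0 := by
      rw [← Finset.add_sum_erase _ _ hSt, hStE] at hsum
      linarith
    have h1 := (Finset.sum_eq_zero_iff_of_nonneg fun g hg => hnonneg g (Finset.mem_of_mem_erase hg)).mp h0 f
      (Finset.mem_erase.mpr ⟨hfS, Finset.mem_erase.mpr ⟨hf, Finset.mem_univ _⟩⟩)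
    have h2 := (mul_eq_zero.mp h1).resolve_left (by exact_mod_cast hcf)
    rcases hcase f hf with ⟨-, h⟩ | ⟨h, -⟩ | h
    · exact h
    all_goals omega
  set X := Finset.univ.filter fun f => H.E.u f = -1 ∧ f ≠ one ∧ c f ≠ 0 with hX
  have hXp : ∀ f ∈ X, H.E.u f = -1 ∧ fx D f = 2 ∧ deg f = p + 1 ∧ c f = 1 ∧ f ≠ one := by
    intro f hf
    obtain ⟨h1, h2, h3⟩ := (Finset.mem_filter.mp hf).2
    rcases hrest f h2 (fun h => by rw [h, hStu] at h1; exact absurd h1 (by decide)) h3 with
      ⟨-, h4, h5⟩ | ⟨k', rfl⟩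
    · exact ⟨h1, h4, h5, hmult f h2 h3 (by omega), h2⟩
    · rw [H.E.u_Y] at h1; exact absurd h1 (by decide)
  have hYc : ∀ k', c (H.E.Y k') ≤ 1 := fun k' => by
    by_contra hh
    have h1 := hmult (H.E.Y k') (H.ne_one_of_deg (H.deg_Y k')) (by omega) (by rw [H.fx_Y_minus hd]; decide)
    omega
  have hsplit : ∀ F : IrrCharacter G → ℕ, ∑ f : IrrCharacter G, c f * F f =
      F one + F St + (∑ f ∈ X, F f) + ∑ k', c (H.E.Y k') * F (H.E.Y k') := by
    intro F
    rw [← Finset.add_sum_erase _ _ (Finset.mem_univ one), hc1, one_mul, ← Finset.add_sum_erase _ _ hSt, hcSt1,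
      one_mul, ← Finset.sum_image (g := H.E.Y) (f := fun f => c f * F f) (fun a _ b _ h => H.E.inj h),
      Finset.sum_congr rfl fun f (hf : f ∈ X) => show F f = c f * F f by
        rw [(hXp f hf).2.2.2.1, one_mul]]
    have hdisj : Disjoint X (Finset.univ.image H.E.Y) := by
      rw [Finset.disjoint_left]
      intro f hf hf'
      obtain ⟨k', -, rfl⟩ := Finset.mem_image.mp hf'
      have := (hXp _ hf).1
      rw [H.E.u_Y] at this
      exact absurd this (by decide)
    rw [add_assoc (F one + F St), ← Finset.sum_union hdisj, add_assoc]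
    congr 1
    congr 1
    refine (Finset.sum_subset (fun f hf => ?_) fun f hf hf' => ?_).symm
    · refine Finset.mem_erase.mpr ⟨?_, Finset.mem_erase.mpr ⟨?_, Finset.mem_univ _⟩⟩
      · rcases Finset.mem_union.mp hf with hf | hf
        · exact fun h => by have := (hXp f hf).1; rw [h, hStu] at this; exact absurd this (by decide)
        · obtain ⟨k', -, rfl⟩ := Finset.mem_image.mp hf
          exact hStY k'
      · rcases Finset.mem_union.mp hf with hf | hf
        · exact (hXp f hf).2.2.2.2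
        · obtain ⟨k', -, rfl⟩ := Finset.mem_image.mp hf
          exact H.ne_one_of_deg (H.deg_Y k')
    · suffices c f = 0 by rw [this, zero_mul]
      by_contra hcf
      obtain ⟨hfS, hf1⟩ := Finset.mem_erase.mp hf
      have hf1' := (Finset.mem_erase.mp hf1).1
      rw [Finset.mem_union, not_or, Finset.mem_image] at hf'
      rcases hrest f hf1' hfS hcf with ⟨h, -⟩ | ⟨k', h⟩
      · exact hf'.1 (Finset.mem_filter.mpr ⟨Finset.mem_univ _, h, hf1', hcf⟩)
      · exact hf'.2 ⟨k', Finset.mem_univ _, h⟩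
  have ht : Fintype.card ((ZMod p)ˣ ⧸ D.expE) = 2 := by
    have h1 := H.small.mul_numY
    rw [← h2e, mul_comm 2] at h1
    rw [← Nat.card_eq_fintype_card]
    exact Nat.eq_of_mul_eq_mul_left H.small.e_pos h1
  obtain ⟨-, -, r, hr⟩ := H.minus_basic hd hperf
  have h2dvd : 2 ∣ e := by
    rw [hr]
    refine dvd_pow_self 2 fun h0 => ?_
    rw [h0, pow_zero] at hr
    omega
  have hηle : ∑ k', c (H.E.Y k') ≤ 2 := by
    calc ∑ k', c (H.E.Y k') ≤ ∑ _k' : (ZMod p)ˣ ⧸ D.expE, 1 := Finset.sum_le_sum fun k' _ => hYc k'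
      _ = 2 := by rw [Finset.sum_const, Finset.card_univ, ht, smul_eq_mul, mul_one]
  have hfix2 : 2 * X.card + ∑ k', c (H.E.Y k') + 2 = e + 1 := by
    rw [← hfix, hsplit, hone, H.small.fx_one, hStfx, Finset.sum_congr rfl fun f hf => (hXp f hf).2.1,
      Finset.sum_const, smul_eq_mul,
      Finset.sum_congr rfl fun k' _ => show c (H.E.Y k') * fx D (H.E.Y k') = c (H.E.Y k') by
        rw [H.fx_Y_minus hd, mul_one]]
    ring
  have hη : ∑ k', c (H.E.Y k') = 1 := by omega
  refine ⟨c, X, hnorm, hexp, by omega, fun f hf => ⟨(hXp f hf).1, (hXp f hf).2.2.1, (hXp f hf).2.2.2.2⟩, ?_⟩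
  rw [hsplit, hc1, hcSt1, Finset.sum_congr rfl fun f hf => (hXp f hf).2.2.2.1, Finset.sum_const,
    smul_eq_mul, mul_one,
    Finset.sum_congr rfl fun k' _ => show c (H.E.Y k') * c (H.E.Y k') = c (H.E.Y k') by
      have := hYc k'
      interval_cases (c (H.E.Y k')) <;> rfl, hη]
  ring

/-- The shape of the block. -/
theorem exists_minusShape [Fintype (IrrCharacter G)] (hd : H.E.δ = -1) (hperf : commutator G = ⊤) :
    Nonempty (MinusShape H) := by
  classical
  obtain ⟨m, hm, hcases⟩ := H.minus_arith hd hperf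
  obtain ⟨hdp, -⟩ := H.minus_eq hd
  obtain ⟨hq, -⟩ := H.minus_basic hd hperf
  have hp := (Fact.out : p.Prime).two_le
  rcases hcases with he2 | ⟨he4, h2e, hde⟩
  · -- a single further character
    obtain ⟨f, hf⟩ := Finset.card_eq_one.mp (show ((Finset.univ.filter fun f => H.E.u f ≠ 0).erase
        (Block.oneChar G)).card = 1 by
      rw [Finset.card_erase_of_mem (Finset.mem_filter.mpr ⟨Finset.mem_univ _, by rw [H.u_one]; decide⟩),
        H.card_support.trans he2])
    have hmem := Finset.mem_singleton_self f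
    rw [← hf] at hmem
    obtain ⟨hf1, hfu⟩ := Finset.mem_erase.mp hmem
    have hfu := (Finset.mem_filter.mp hfu).2
    have hrel := H.relation_others hd
    rw [← Finset.sum_subset (Finset.erase_subset_erase (Block.oneChar G) (Finset.subset_univ
      (Finset.univ.filter fun f => H.E.u f ≠ 0))) (fun g hg hg' => by
        have : H.E.u g = 0 := by
          by_contra h
          exact hg' (Finset.mem_erase.mpr ⟨(Finset.mem_erase.mp hg).1, Finset.mem_filter.mpr ⟨Finset.mem_univ _, h⟩⟩)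
        rw [this, zero_mul]), hf, Finset.sum_singleton] at hrel
    have hu1 : H.E.u f = 1 := by
      rcases H.E.u_cases f with h | h | h
      · exact absurd h hfu
      · exact h
      · rw [h] at hrel
        have := deg_pos f
        omega
    rw [hu1, one_mul] at hrel
    refine ⟨⟨∅, {f}, hd, hq, m, hm, Or.inl he2, ?_, by rw [Finset.card_empty, he2], fun g hg => ?_,
      fun g hg => ?_⟩⟩
    · refine sum_u_of_support H (Finset.disjoint_empty_left _) ?_ (fun g hg => ?_) (fun g hg => ?_) ?_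
      · simpa using hf1.symm
      · simp at hg
      · rw [Finset.mem_singleton.mp hg, hu1]
      · rw [Finset.card_empty, Finset.card_singleton, he2]
    · simp at hg
    · rw [Finset.mem_singleton.mp hg]; omega
  set one := Block.oneChar G with hone
  obtain ⟨c, X, hnorm, hexp, hcardX, hXp, hsq⟩ := H.normSq_Y hd hperf h2e hde 1
  have ht : Fintype.card ((ZMod p)ˣ ⧸ D.expE) = 2 := by
    have h1 := H.small.mul_numY
    rw [← h2e, mul_comm 2] at h1
    rw [← Nat.card_eq_fintype_card]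
    exact Nat.eq_of_mul_eq_mul_left H.small.e_pos h1
  haveI : Nontrivial ((ZMod p)ˣ ⧸ D.expE) := Fintype.one_lt_card_iff_nontrivial.mp (by rw [ht]; decide)
  obtain ⟨k₂, hk₂⟩ := exists_ne (1 : (ZMod p)ˣ ⧸ D.expE)
  have htwo : ∀ k : (ZMod p)ˣ ⧸ D.expE, k = 1 ∨ k = k₂ := fun k => by
    by_contra h
    push Not at h
    have h1 : ({1, k₂, k} : Finset _).card ≤ 2 := ht ▸ Finset.card_le_univ _
    rw [Finset.card_insert_of_notMem (by simp [hk₂.symm, h.1.symm]), Finset.card_pair h.2.symm] at h1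
    omega
  obtain ⟨c₂, X₂, hnorm₂, hexp₂, hcardX₂, -, hsq₂⟩ := H.normSq_Y hd hperf h2e hde k₂
  have hψ : IsCharacter G (fun g => (H.E.Y 1 : G → ℂ) g * conj ((H.E.Y k₂ : G → ℂ) g)) :=
    isCharacter_mul (isCharacter_irr _) (isCharacter_conj (isCharacter_irr _))
  obtain ⟨c', hexp', hc', hnorm'⟩ := exists_coeff hψ
  have hbound : ∑ f : IrrCharacter G, c' f * c' f ≤ X.card + 3 := by
    have h1 : classInner (fun g => (H.E.Y 1 : G → ℂ) g * conj ((H.E.Y k₂ : G → ℂ) g))
        (fun g => (H.E.Y 1 : G → ℂ) g * conj ((H.E.Y k₂ : G → ℂ) g)) =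
        classInner (fun g => (H.E.Y 1 : G → ℂ) g * conj ((H.E.Y 1 : G → ℂ) g))
          (fun g => (H.E.Y k₂ : G → ℂ) g * conj ((H.E.Y k₂ : G → ℂ) g)) := by
      simp only [classInner, map_mul, Complex.conj_conj]
      congr 1
      exact Finset.sum_congr rfl fun g _ => by ring
    rw [hnorm', show (fun g => (H.E.Y k₂ : G → ℂ) g * conj ((H.E.Y k₂ : G → ℂ) g)) =
        ∑ f : IrrCharacter G, (c₂ f : ℂ) • (f : G → ℂ) from funext fun g => by simp [hexp₂ g, Finset.sum_apply],
      show (fun g => (H.E.Y 1 : G → ℂ) g * conj ((H.E.Y 1 : G → ℂ) g)) =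
        ∑ f : IrrCharacter G, (c f : ℂ) • (f : G → ℂ) from funext fun g => by simp [hexp g, Finset.sum_apply],
      classInner_sum_right] at h1
    simp only [classInner_smul_right, classInner_sum_left, classInner_smul_left, classInner_irr, mul_ite,
      mul_one, mul_zero, Finset.sum_ite_eq', Finset.mem_univ, if_true, map_natCast] at h1
    have h2 : ∑ f : IrrCharacter G, c' f * c' f = ∑ f : IrrCharacter G, c₂ f * c f := by exact_mod_cast h1
    have h3 : ∑ f : IrrCharacter G, 2 * (c₂ f * c f) ≤ ∑ f : IrrCharacter G, (c₂ f * c₂ f + c f * c f) :=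
      Finset.sum_le_sum fun f _ => by
        rcases le_total (c₂ f) (c f) with h | h
        · obtain ⟨r, hr⟩ := Nat.exists_eq_add_of_le h
          rw [hr]; ring_nf; omega
        · obtain ⟨r, hr⟩ := Nat.exists_eq_add_of_le h
          rw [hr]; ring_nf; omega
    rw [← Finset.mul_sum, Finset.sum_add_distrib, hsq, hsq₂] at h3
    omega
  have hfix : ∑ f : IrrCharacter G, c' f * fx D f = 1 := by
    have h1 := fixd_sum_mul H.small hexp'
    rw [fixd_mul_conj H.small] at h1
    have hv : ∀ v : (ZMod p)ˣ, D.multN (H.E.Y 1) v * D.multN (H.E.Y k₂) v = 0 := fun v => by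
      have e1 := H.multN_Y_minus hd 1 v
      have e2 := H.multN_Y_minus hd k₂ v
      rcases htwo (v : (ZMod p)ˣ ⧸ D.expE) with h | h
      · rw [h, if_pos rfl] at e1
        rw [show D.multN (H.E.Y 1) v = 0 by exact_mod_cast e1, zero_mul]
      · rw [h, if_pos rfl] at e2
        rw [show D.multN (H.E.Y k₂) v = 0 by exact_mod_cast e2, mul_zero]
    have h2 : ∑ j : ZMod p, D.multN (H.E.Y 1) j * D.multN (H.E.Y k₂) j = 1 := by
      rw [sum_zmod_split (fun j : ZMod p => D.multN (H.E.Y 1) j * D.multN (H.E.Y k₂) j),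
        show D.multN (H.E.Y 1) 0 = 1 from H.fx_Y_minus hd 1,
        show D.multN (H.E.Y k₂) 0 = 1 from H.fx_Y_minus hd k₂, Finset.sum_eq_zero fun v _ => hv v]
      rfl
    rw [h2] at h1
    exact_mod_cast h1.symm
  have hc1 : c' one = 0 := by
    have h1 := hc' one
    have h2 : classInner (fun g => (H.E.Y 1 : G → ℂ) g * conj ((H.E.Y k₂ : G → ℂ) g)) (one : G → ℂ) =
        classInner (H.E.Y 1 : G → ℂ) (H.E.Y k₂ : G → ℂ) := by
      show classInner _ (fun _ => 1) = _
      simp [classInner]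
    rw [h2, classInner_irr, if_neg fun h => hk₂ (H.E.inj h).symm] at h1
    exact_mod_cast h1.symm
  obtain ⟨f₁, -, hf₁0⟩ := Finset.exists_ne_zero_of_sum_ne_zero (by rw [hfix]; decide :
    ∑ f : IrrCharacter G, c' f * fx D f ≠ 0)
  have hsp := Finset.add_sum_erase Finset.univ (fun f => c' f * fx D f) (Finset.mem_univ f₁)
  simp only [hfix] at hsp
  obtain ⟨hcf₁, hfxf₁⟩ := mul_eq_one.mp (show c' f₁ * fx D f₁ = 1 by omega)
  have hother : ∀ f, f ≠ f₁ → c' f ≠ 0 → H.E.u f = 1 ∧ deg f = 2 * e := by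
    intro f hf hcf
    have h1 := (Nat.mul_eq_zero.mp (Finset.sum_eq_zero_iff.mp (show ∑ g ∈ Finset.univ.erase f₁,
      c' g * fx D g = 0 by omega) f (Finset.mem_erase.mpr ⟨hf, Finset.mem_univ _⟩))).resolve_left hcf
    have hpos := deg_pos f
    by_cases hu : H.E.u f = 0
    · exfalso
      by_cases hY : ∃ k, H.E.Y k = f
      · obtain ⟨k, rfl⟩ := hY
        rw [H.fx_Y_minus hd] at h1
        exact one_ne_zero h1
      · push Not at hY
        have h2 := H.small.deg_eq_vec f
        rw [Finset.sum_eq_zero fun j _ => by rw [H.E.vec_eq, hu, if_neg fun e => hY _ e.symm, mul_zero,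
          add_zero], add_zero, h1] at h2
        omega
    · have h2 := H.deg_u hu
      rw [h1] at h2
      rcases H.E.u_cases f with h | h | h
      · exact absurd h hu
      · rw [h] at h2; push_cast at h2; exact ⟨h, by omega⟩
      · rw [h] at h2; push_cast at h2; omega
  set Z := Finset.univ.filter fun f => f ≠ f₁ ∧ c' f ≠ 0 with hZ
  have hsplit : ∀ F : IrrCharacter G → ℕ, ∑ f : IrrCharacter G, c' f * F f =
      F f₁ + ∑ f ∈ Z, c' f * F f := by
    intro F
    rw [← Finset.add_sum_erase _ _ (Finset.mem_univ f₁), hcf₁, one_mul]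
    congr 1
    refine (Finset.sum_subset (fun f hf => Finset.mem_erase.mpr ⟨(Finset.mem_filter.mp hf).2.1, Finset.mem_univ _⟩)
      fun f hf hf' => ?_).symm
    have : c' f = 0 := by
      by_contra h
      exact hf' (Finset.mem_filter.mpr ⟨Finset.mem_univ _, (Finset.mem_erase.mp hf).1, h⟩)
    rw [this, zero_mul]
  have hdeg : deg f₁ + 2 * e * (∑ f ∈ Z, c' f) = (e + 1) * (e + 1) := by
    have h1 := hexp' 1
    simp only [val_one, H.deg_Y, map_natCast] at h1
    have h2 : ∑ f : IrrCharacter G, c' f * deg f = d * d := by exact_mod_cast h1.symm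
    rw [hsplit, Finset.sum_congr rfl fun f (hf : f ∈ Z) => show c' f * deg f = c' f * (2 * e) by
      rw [(hother f (Finset.mem_filter.mp hf).2.1 (Finset.mem_filter.mp hf).2.2).2], ← Finset.sum_mul] at h2
    have h3 : d * d = (e + 1) * (e + 1) := by rw [← hde]
    rw [mul_comm (2 * e), h2, h3]
  obtain ⟨-, -, r, hr⟩ := H.minus_basic hd hperf
  have h2dvd : 2 ∣ e := by
    rw [hr]
    refine dvd_pow_self 2 fun h0 => ?_
    rw [h0, pow_zero] at hr
    omega
  have hZcard : 2 * (∑ f ∈ Z, c' f) = e := by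
    have hdeg1 : deg f₁ = d ∨ deg f₁ = p := by
      have hpos := deg_pos f₁
      by_cases hu : H.E.u f₁ = 0
      · by_cases hY : ∃ k, H.E.Y k = f₁
        · obtain ⟨k, rfl⟩ := hY
          exact Or.inl (H.deg_Y k)
        · push Not at hY
          have h2 := H.small.deg_eq_vec f₁
          rw [Finset.sum_eq_zero fun j _ => by rw [H.E.vec_eq, hu, if_neg fun e => hY _ e.symm, mul_zero,
            add_zero], add_zero, hfxf₁] at h2
          exact Or.inr (by omega)
      · exfalso
        have hne : f₁ ≠ one := fun h => by rw [h, hc1] at hcf₁; exact zero_ne_one hcf₁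
        have h2 := H.deg_u hu
        have h3 := H.even_deg_other hd hperf hne hu
        have h4 : deg f₁ ≠ 1 := fun h => hne (hlin_of_perfect hperf h)
        rw [hfxf₁] at h2
        rcases H.E.u_cases f₁ with h | h | h
        · exact hu h
        · rw [h] at h2; push_cast at h2; omega
        · rw [h] at h2; push_cast at h2; omega
    rcases hdeg1 with h | h
    · exfalso
      have h5 : (e + 1) * e = 2 * (∑ f ∈ Z, c' f) * e := by
        have e1 : (e + 1) * (e + 1) = (e + 1) * e + (e + 1) := by ring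
        have e2 : 2 * (∑ f ∈ Z, c' f) * e = 2 * e * (∑ f ∈ Z, c' f) := by ring
        omega
      have h6 := Nat.eq_of_mul_eq_mul_right H.small.e_pos h5
      omega
    · have h5 : e * e = 2 * (∑ f ∈ Z, c' f) * e := by
        have e1 : (e + 1) * (e + 1) = e * e + (2 * e + 1) := by ring
        have e2 : 2 * (∑ f ∈ Z, c' f) * e = 2 * e * (∑ f ∈ Z, c' f) := by ring
        omega
      exact (Nat.eq_of_mul_eq_mul_right H.small.e_pos h5).symm
  have hZ1 : ∀ f ∈ Z, c' f = 1 := by
    intro f hf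
    by_contra hne
    have hf0 := (Finset.mem_filter.mp hf).2.2
    have h1 := hbound
    rw [hsplit c', hcf₁, ← Finset.add_sum_erase _ _ hf] at h1
    have h2 : ∑ g ∈ Z.erase f, c' g ≤ ∑ g ∈ Z.erase f, c' g * c' g :=
      Finset.sum_le_sum fun g _ => Nat.le_mul_self _
    have h3 : c' f * 2 ≤ c' f * c' f := Nat.mul_le_mul_left _ (by omega)
    have h4 := Finset.add_sum_erase Z c' hf
    omega
  have hZc : 2 * Z.card = e := by
    rw [← hZcard, Finset.sum_congr rfl hZ1, Finset.sum_const, smul_eq_mul, mul_one]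
  have hZu : ∀ f ∈ Z, H.E.u f = 1 ∧ deg f = 2 * e := fun f hf =>
    hother f (Finset.mem_filter.mp hf).2.1 (Finset.mem_filter.mp hf).2.2
  refine ⟨⟨X, Z, hd, hq, m, hm, Or.inr ⟨he4, h2e, hde⟩, ?_, hcardX, fun f hf => ?_, fun f hf => ?_⟩⟩
  · refine sum_u_of_support H (Finset.disjoint_left.mpr fun f h1 h2 => ?_) (fun h => ?_)
      (fun f hf => (hXp f hf).1) (fun f hf => (hZu f hf).1) (by omega)
    · have := (hXp f h1).1
      rw [(hZu f h2).1] at this
      exact absurd this (by decide)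
    · rcases Finset.mem_union.mp h with h | h
      · exact (hXp _ h).2.2 rfl
      · have := (hZu _ h).1
        rw [H.u_one] at this
        exact absurd this (by decide)
  · rw [(hXp f hf).2.1]; omega
  · rw [(hZu f hf).2]; omega

end QData

end CfsgLib.Char.FewSylow.QPower
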