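import Cfsg.Agent.Lib.Char.FewSylow.QPower.PlusShape

/-!
# Sign `+`: there are few Sylow subgroups

A central involution `j` of a Sylow `2`-subgroup has a `2`-group as centralizer and inverts an
element whose centralizer has order `e`; counting the inverted conjugates bounds `n`.
-/

set_option autoImplicit false
set_option linter.unusedSectionVars false
set_option linter.style.haveILetI false

open scoped ComplexConjugate

namespace CfsgLib.Char.FewSylow.QPower

open Cfsg CfsgLib.Char CfsgLib.Block CfsgLib.Block.Cyclic CfsgLib.Char.FewSylow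

universe u

variable {p : ℕ} [Fact p.Prime] {G : Type u} [Group G] [Fintype G] [DecidableEq G]
  {D : CycSetup p G} [Fintype D.K] {n e q b d : ℕ} {H : QData D n e q b d}
  [Fintype (IrrCharacter G)]

/-- The values at a central involution. -/
structure PlusInvol (S : PlusShape H) (j : G) : Prop where
  sq_one : j * j = 1
  ne_one : j ≠ 1
  regular : ¬ p ∣ orderOf j
  odd_index : Odd (Subgroup.centralizer ({j} : Set G)).index
  X_val : ∀ f ∈ S.X, (f : G → ℂ) j = 0
  Z_val : ∀ f ∈ S.Z, (f : G → ℂ) j = 2 * (S.sgn f : ℂ)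
  y_val : (H.y : G → ℂ) j = -1

namespace PlusShape

variable (S : PlusShape H)
include S

theorem five_le : 5 ≤ p := by
  rcases H.shape with ⟨-, -, h⟩ | ⟨h, -, -⟩
  · have := S.odd_e
    have := H.two_le
    obtain ⟨r, hr⟩ := S.odd_e
    omega
  · rw [S.delta] at h; exact absurd h (by decide)

theorem two_e : 2 * e = p - 1 := (H.plus_eq_e S.delta).2

theorem rel_eq (a c : G) :
    H.rel a c = -1 - (∑ f ∈ S.X, (f : G → ℂ) a * (f : G → ℂ) c / (f : G → ℂ) 1) +
      (∑ f ∈ S.Z, (f : G → ℂ) a * (f : G → ℂ) c / (f : G → ℂ) 1) +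
      (H.y : G → ℂ) a * (H.y : G → ℂ) c / (H.y : G → ℂ) 1 := by
  rw [QData.rel, S.sum_u fun f => (f : G → ℂ) a * (f : G → ℂ) c / (f : G → ℂ) 1, S.delta]
  simp only [show ∀ g : G, (Block.oneChar G : G → ℂ) g = 1 from fun _ => rfl, Int.cast_one, one_mul,
    div_one]

theorem y_one : (H.y : G → ℂ) 1 = (e : ℂ) := by rw [val_one, H.deg_y.trans S.d_eq]

/-- Two involutions do not multiply to an element of order `p`. -/
theorem classConst_invol {j : G} (hj : j * j = 1) (hj1 : j ≠ 1) {i : ZMod p} (hi : i ≠ 0) :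
    classConst j j (D.xp i) = 0 := by
  rw [classConst, Nat.card_eq_zero]
  refine Or.inl ⟨fun ⟨⟨a, c⟩, ha, hc, hac⟩ => ?_⟩
  have hsq : ∀ x : G, IsConj j x → x * x = 1 ∧ x ≠ 1 := by
    intro x hx
    obtain ⟨g, rfl⟩ := isConj_iff.mp hx
    refine ⟨?_, fun h => hj1 (conj_eq_one_iff.mp h)⟩
    rw [show g * j * g⁻¹ * (g * j * g⁻¹) = g * (j * j) * g⁻¹ by group, hj, mul_one, mul_inv_cancel]
  obtain ⟨ha2, ha1⟩ := hsq a ha
  obtain ⟨hc2, -⟩ := hsq c hc
  change a * c = D.xp i at hac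
  have hainv : a⁻¹ = a := inv_eq_of_mul_eq_one_right ha2
  have h1 : a⁻¹ * D.xp i * a ∈ D.Q := by
    have h2 : a⁻¹ * D.xp i * a = (D.xp i)⁻¹ := by
      rw [← hac, mul_inv_rev, inv_eq_of_mul_eq_one_right hc2, hainv]
      rw [← mul_assoc, ha2, one_mul]
    rw [h2]
    exact D.Q.inv_mem (D.xp_mem i)
  let _ : Fintype (norm D) := Fintype.ofFinite _
  have haN := (H.small.mem_norm_of_conj hi (D.Q.le_normalizer h1)).2
  have haQ : a ∉ D.Q := fun hm => by
    have h3 := orderOf_eq_p D.hQ hm ha1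
    rw [orderOf_eq_prime (p := 2) (by rw [pow_two, ha2]) ha1] at h3
    have := S.five_le
    omega
  have h4 := H.small.orderOf_dvd haN haQ
  rw [orderOf_eq_prime (p := 2) (by rw [pow_two, ha2]) ha1] at h4
  exact Nat.not_even_iff_odd.mpr S.odd_e (even_iff_two_dvd.mpr h4)

theorem exists_invol [IsSimpleGroup G] (hperf : commutator G = ⊤) (hn : 1 ≤ n) :
    ∃ j, PlusInvol S j := by
  classical
  have hb := H.b_pos hn
  have h2G : 2 ∣ Nat.card G := by
    rw [H.card, S.q_two]
    exact dvd_mul_of_dvd_left (dvd_mul_of_dvd_right (dvd_pow_self 2 (by omega)) _) _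
  obtain ⟨j, hj, hodd⟩ := exists_central_involution h2G
  have hp5 := S.five_le
  have h2e := S.two_e
  have hjj : j * j = 1 := by rw [← pow_two, ← hj, pow_orderOf_eq_one]
  have hj1 : j ≠ 1 := fun h => by rw [h, orderOf_one] at hj; exact absurd hj (by decide)
  have hreg : ¬ p ∣ orderOf j := fun h => by
    rw [hj] at h
    have := Nat.le_of_dvd two_pos h
    omega
  have hX : ∀ f ∈ S.X, (f : G → ℂ) j = 0 := fun f hf => by
    refine value_eq_zero_of_coprime hperf (fun h => ?_) hj1 ?_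
    · have := (S.X_prop f hf).2.1
      rw [h, deg_one] at this
      omega
    · rw [(S.X_prop f hf).2.1, S.p_eq]
      exact Nat.Coprime.pow_left _ (Nat.coprime_two_left.mpr hodd)
  have hy2 : (H.y : G → ℂ) j * (H.y : G → ℂ) j = 1 := by
    have h1 := S.normSq j
    rw [H.conj_y hreg, Finset.sum_eq_zero hX, add_zero] at h1
    exact h1
  let z : IrrCharacter G → ℝ := fun f => ((f : G → ℂ) j).re
  have hz : ∀ f : IrrCharacter G, (f : G → ℂ) j = (z f : ℂ) := fun f =>
    (Complex.conj_eq_iff_re.mp (conj_invol f hjj)).symm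
  have hrel : H.rel j j = 0 := by
    have hone : ((1 : (ZMod p)ˣ) : ZMod p) ≠ 0 := Units.ne_zero _
    have h1 := H.classConst_eq hreg hreg hone
    rw [S.classConst_invol hjj hj1 hone, Nat.cast_zero, eq_comm, mul_eq_zero] at h1
    refine neg_eq_zero.mp (h1.resolve_left ?_)
    exact div_ne_zero (mul_ne_zero (Nat.cast_ne_zero.mpr Subgroup.index_ne_zero_of_finite)
      (Nat.cast_ne_zero.mpr Subgroup.index_ne_zero_of_finite)) (Nat.cast_ne_zero.mpr Nat.card_pos.ne')
  have heC : (e : ℂ) ≠ 0 := Nat.cast_ne_zero.mpr H.small.e_pos.ne'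
  have hZsq : ((∑ f ∈ S.Z, z f * z f : ℝ) : ℂ) = 2 * (e : ℂ) - 2 := by
    rw [S.rel_eq, Finset.sum_eq_zero (fun f hf => by rw [hX f hf]; simp), sub_zero, hy2, S.y_one,
      Finset.sum_congr rfl fun f (hf : f ∈ S.Z) =>
        show (f : G → ℂ) j * (f : G → ℂ) j / (f : G → ℂ) 1 = ((z f * z f : ℝ) : ℂ) / (2 * (e : ℂ)) by
          rw [val_one, (S.Z_prop f hf).2.1, hz]; push_cast; rfl,
      ← Finset.sum_div, ← Complex.ofReal_sum] at hrel
    field_simp at hrel
    simp only [← pow_two]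
    linear_combination hrel
  have hZsum : ((∑ f ∈ S.Z, (S.sgn f : ℝ) * z f : ℝ) : ℂ) = (e : ℂ) + (H.y : G → ℂ) j := by
    have h1 := S.square j hreg
    rw [hjj, S.y_one] at h1
    rw [h1, Complex.ofReal_sum]
    exact Finset.sum_congr rfl fun f _ => by rw [hz]; push_cast; rfl
  have hsgn : ∑ f ∈ S.Z, (S.sgn f : ℝ) * (S.sgn f : ℝ) = S.Z.card := by
    rw [Finset.sum_congr rfl fun f hf => show (S.sgn f : ℝ) * (S.sgn f : ℝ) = 1 by
      rcases S.sgn_cases f hf with h | h <;> rw [h] <;> norm_num, Finset.sum_const, nsmul_one]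
  have hcard : 2 * (S.Z.card : ℝ) + 1 = e := by exact_mod_cast S.card_Z
  have hexpand : ∑ f ∈ S.Z, (z f - 2 * (S.sgn f : ℝ)) ^ 2 =
      (∑ f ∈ S.Z, z f * z f) - 4 * (∑ f ∈ S.Z, (S.sgn f : ℝ) * z f) +
        4 * ∑ f ∈ S.Z, (S.sgn f : ℝ) * (S.sgn f : ℝ) := by
    rw [Finset.mul_sum, Finset.mul_sum, ← Finset.sum_sub_distrib, ← Finset.sum_add_distrib]
    exact Finset.sum_congr rfl fun f _ => by ring
  have hnonneg : 0 ≤ ∑ f ∈ S.Z, (z f - 2 * (S.sgn f : ℝ)) ^ 2 :=
    Finset.sum_nonneg fun f _ => sq_nonneg _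
  have hsq' : ∑ f ∈ S.Z, z f * z f = 2 * (e : ℝ) - 2 := by
    apply Complex.ofReal_injective
    rw [hZsq]
    push_cast
    rfl
  have hy : (H.y : G → ℂ) j = -1 := by
    refine (mul_self_eq_one_iff.mp hy2).resolve_left fun h1 => ?_
    have h2 : ∑ f ∈ S.Z, (S.sgn f : ℝ) * z f = (e : ℝ) + 1 := by
      apply Complex.ofReal_injective
      rw [hZsum, h1]
      push_cast
      rfl
    rw [hexpand, hsq', h2, hsgn] at hnonneg
    linarith
  refine ⟨j, hjj, hj1, hreg, hodd, hX, fun f hf => ?_, hy⟩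
  have h2 : ∑ f ∈ S.Z, (S.sgn f : ℝ) * z f = (e : ℝ) - 1 := by
    apply Complex.ofReal_injective
    rw [hZsum, hy]
    push_cast
    ring
  have h3 : ∑ f ∈ S.Z, (z f - 2 * (S.sgn f : ℝ)) ^ 2 = 0 := by
    rw [hexpand, hsq', h2, hsgn]
    linarith
  have h4 := (Finset.sum_eq_zero_iff_of_nonneg fun f _ => sq_nonneg _).mp h3 f hf
  rw [pow_eq_zero_iff two_ne_zero, sub_eq_zero] at h4
  rw [hz, h4]
  push_cast
  rfl

variable {j : G} (hI : PlusInvol S j)
include hI

/-- The classes of `j` and of elements of order `p`. -/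
theorem sum_classConst :
    ∑ i : (ZMod p)ˣ, (classConst j (D.xp ((1 : (ZMod p)ˣ) : ZMod p)) (D.xp (i : ZMod p)) : ℂ) =
      ((Subgroup.centralizer ({j} : Set G)).index : ℂ) := by
  classical
  have h2e := S.two_e
  have hpe : (p : ℂ) = 2 * (e : ℂ) + 1 := by
    have : p = 2 * e + 1 := by have := S.five_le; omega
    exact_mod_cast this
  have heC : (e : ℂ) ≠ 0 := Nat.cast_ne_zero.mpr H.small.e_pos.ne'
  set x₁ : G := D.xp ((1 : (ZMod p)ˣ) : ZMod p) with hx₁
  have hCz : Subgroup.centralizer ({x₁} : Set G) = D.Q := by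
    refine le_antisymm (fun g hg => H.small.mem_Q_of_commute (Units.ne_zero _)
      (Subgroup.mem_centralizer_singleton_iff.mp hg)) fun g hg => ?_
    rw [← H.small.cent] at hg
    exact Subgroup.mem_centralizer_singleton_iff.mpr
      (Subgroup.mem_centralizer_iff.mp hg x₁ (D.xp_mem _)).symm
  have hidx : ((Subgroup.centralizer ({x₁} : Set G)).index : ℂ) / (Nat.card G : ℂ) = (p : ℂ)⁻¹ := by
    rw [hCz, ← D.Q.card_mul_index, D.hQ, Nat.cast_mul]
    have : (D.Q.index : ℂ) ≠ 0 := Nat.cast_ne_zero.mpr Subgroup.index_ne_zero_of_finite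
    have := p_cast_ne_zero (p := p)
    field_simp
  set T : IrrCharacter G → ℂ := fun f =>
    (f : G → ℂ) j * ((p : ℂ) * fx D f - deg f) / (f : G → ℂ) 1 with hT
  have hTY : ∀ k, T (H.E.Y k) = 1 := fun k => by
    simp only [hT, H.fx_Y, if_pos S.delta, Nat.cast_zero, mul_zero, zero_sub, val_one,
      H.y_eq k hI.regular, hI.y_val, (H.deg_Y k).trans S.d_eq]
    field_simp
  have hTu : ∑ f : IrrCharacter G, (H.E.u f : ℂ) * T f = -(2 * (e : ℂ) + 2) := by
    rw [S.sum_u, Finset.sum_eq_zero (fun f hf => by simp only [hT, hI.X_val f hf]; simp),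
      Finset.sum_congr rfl fun f (hf : f ∈ S.Z) => show T f = -2 * (S.sgn f : ℂ) by
        simp only [hT, hI.Z_val f hf, val_one, (S.Z_prop f hf).2.1, (S.Z_prop f hf).2.2, Nat.cast_zero]
        push_cast
        field_simp
        ring,
      ← Finset.mul_sum, ← Int.cast_sum, S.sgn_sum]
    simp only [hT, deg_one, H.small.fx_one, show ∀ g : G, (Block.oneChar G : G → ℂ) g = 1 from fun _ => rfl]
    rw [hpe]
    push_cast
    ring
  have hsum : ∑ f : IrrCharacter G,
      (f : G → ℂ) j * (f : G → ℂ) x₁ * ((p : ℂ) * fx D f - deg f) / (f : G → ℂ) 1 = p := by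
    have key : ∀ f : IrrCharacter G,
        (f : G → ℂ) j * (f : G → ℂ) x₁ * ((p : ℂ) * fx D f - deg f) / (f : G → ℂ) 1 =
          ∑ v : (ZMod p)ˣ, ((H.E.u f : ℂ) * T f + (if f = H.E.Y v then T f else 0)) *
            stdPsi p (((1 : (ZMod p)ˣ) : ZMod p) * v) := by
      intro f
      rw [hx₁, H.value_xp f (Units.ne_zero _), Finset.mul_sum, Finset.sum_mul, Finset.sum_div]
      refine Finset.sum_congr rfl fun v _ => ?_
      rw [H.E.vec_eq, S.delta]
      simp only [hT]
      push_cast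
      split_ifs <;> ring
    rw [Finset.sum_congr rfl fun f _ => key f, Finset.sum_comm,
      Finset.sum_congr rfl fun (v : (ZMod p)ˣ) _ => show
        ∑ f : IrrCharacter G, ((H.E.u f : ℂ) * T f + (if f = H.E.Y v then T f else 0)) *
            stdPsi p (((1 : (ZMod p)ˣ) : ZMod p) * v) =
          (-(2 * (e : ℂ) + 2) + 1) * stdPsi p (((1 : (ZMod p)ˣ) : ZMod p) * v) by
        rw [← Finset.sum_mul, Finset.sum_add_distrib, hTu, Finset.sum_ite_eq', if_pos (Finset.mem_univ _), hTY],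
      ← Finset.mul_sum]
    have h1 := congrArg conj (QData.sum_conj_psi H (i := ((1 : (ZMod p)ˣ) : ZMod p)) (Units.ne_zero _))
    simp only [map_sum, Complex.conj_conj, map_neg, map_one] at h1
    rw [h1, hpe]
    ring
  have key2 : ∀ i : (ZMod p)ˣ, (classConst j x₁ (D.xp (i : ZMod p)) : ℂ) =
      ((Subgroup.centralizer ({j} : Set G)).index : ℂ) *
        (((Subgroup.centralizer ({x₁} : Set G)).index : ℂ) / (Nat.card G : ℂ)) *
        ∑ f : IrrCharacter G, (f : G → ℂ) j * (f : G → ℂ) x₁ * conj ((f : G → ℂ) (D.xp (i : ZMod p))) /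
          (f : G → ℂ) 1 := by
    intro i
    rw [classConst_formula, card_isConj, card_isConj, finsum_eq_sum_of_fintype]
    ring
  rw [Finset.sum_congr rfl fun i _ => key2 i, ← Finset.mul_sum, hidx, Finset.sum_comm,
    Finset.sum_congr rfl fun (f : IrrCharacter G) _ => show
      ∑ i : (ZMod p)ˣ, (f : G → ℂ) j * (f : G → ℂ) x₁ * conj ((f : G → ℂ) (D.xp (i : ZMod p))) /
          (f : G → ℂ) 1 =
        (f : G → ℂ) j * (f : G → ℂ) x₁ * ((p : ℂ) * fx D f - deg f) / (f : G → ℂ) 1 by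
      rw [← Finset.sum_div, ← Finset.mul_sum, ← map_sum, sum_units_value H.small f]
      simp,
    hsum, mul_assoc, inv_mul_cancel₀ (p_cast_ne_zero (p := p)), mul_one]

/-- The centralizer of `j` is a Sylow `2`-subgroup and the class of `j` has `p e` elements. -/
theorem centralizer_invol :
    Nat.card (Subgroup.centralizer ({j} : Set G)) = 2 ^ b ∧
      (Subgroup.centralizer ({j} : Set G)).index = p * e := by
  classical
  let _ : Fintype (norm D) := Fintype.ofFinite _
  set F : (ZMod p)ˣ → ℕ := fun i => classConst j (D.xp ((1 : (ZMod p)ˣ) : ZMod p)) (D.xp (i : ZMod p)) with hF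
  have hsum : ∑ i : (ZMod p)ˣ, F i = (Subgroup.centralizer ({j} : Set G)).index := by
    exact_mod_cast S.sum_classConst hI
  have hinv : ∀ r ∈ D.expE, ∀ i, F (r * i) = F i := by
    rintro r ⟨t, rfl⟩ i
    have h1 := D.conj_xp ⟨(t : G), D.stab_le t.2⟩ (i : ZMod p)
    simp only [hF]
    rw [← classConst_conj _ _ (D.xp (i : ZMod p)) (t : G), h1, Units.val_mul]
    rfl
  obtain ⟨M, hM⟩ : e ∣ (Subgroup.centralizer ({j} : Set G)).index := by
    rw [← hsum, ← Finset.sum_fiberwise Finset.univ (QuotientGroup.mk : (ZMod p)ˣ → (ZMod p)ˣ ⧸ D.expE)]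
    refine Finset.dvd_sum fun k _ => ?_
    obtain ⟨v, rfl⟩ := QuotientGroup.mk_surjective k
    rw [Finset.sum_congr rfl fun i (hi : i ∈ _) => show F i = F v by
      have h1 := QuotientGroup.eq.mp (Finset.mem_filter.mp hi).2
      have h2 := hinv _ h1 i
      rw [mul_comm, mul_inv_cancel_left] at h2
      exact h2.symm, Finset.sum_const, smul_eq_mul]
    refine dvd_mul_of_dvd_left (dvd_of_eq ?_) _
    rw [← H.small.card_expE, ← coset_card D (v : (ZMod p)ˣ ⧸ D.expE)]
    congr 1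
    ext i
    simp [eq_comm]
  have hG := (Subgroup.centralizer ({j} : Set G)).card_mul_index
  rw [H.card, S.q_two, S.d_eq, hM] at hG
  have hC : Nat.card (Subgroup.centralizer ({j} : Set G)) ∣ p * 2 ^ b := by
    refine ⟨M, mul_right_cancel₀ H.small.e_pos.ne' ?_⟩
    rw [← hG]; ring
  have hC2 : Nat.card (Subgroup.centralizer ({j} : Set G)) ∣ 2 ^ b :=
    (((Fact.out : p.Prime).coprime_iff_not_dvd.mpr
      (not_dvd_centralizer H.small hI.regular hI.ne_one)).symm).dvd_of_dvd_mul_left hC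
  obtain ⟨c, hcb, hc⟩ := (Nat.dvd_prime_pow Nat.prime_two).mp hC2
  have hG2 := (Subgroup.centralizer ({j} : Set G)).card_mul_index
  rw [H.card, S.q_two, S.d_eq, hc] at hG2
  obtain ⟨r, rfl⟩ : ∃ r, b = c + r := ⟨b - c, by omega⟩
  rw [pow_add, show p * (2 ^ c * 2 ^ r) * e = 2 ^ c * (p * e * 2 ^ r) by ring] at hG2
  have hidx := mul_left_cancel₀ (pow_ne_zero c two_ne_zero) hG2
  have hr : r = 0 := by
    by_contra hr
    have h2 : 2 ∣ (Subgroup.centralizer ({j} : Set G)).index := by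
      rw [hidx]
      exact dvd_mul_of_dvd_right (dvd_pow_self 2 hr) _
    exact Nat.not_even_iff_odd.mpr hI.odd_index (even_iff_two_dvd.mpr h2)
  subst hr
  exact ⟨hc, by rw [hidx, pow_zero, mul_one]⟩

/-- The class multiplication of `j` and a `p`-regular element. -/
theorem classConst_regular {x : G} (hx : ¬ p ∣ orderOf x) :
    (classConst j x (D.xp ((1 : (ZMod p)ˣ) : ZMod p)) : ℂ) *
        (Nat.card (Subgroup.centralizer ({x} : Set G)) : ℂ) =
      (p : ℂ) * ((e : ℂ) - (H.y : G → ℂ) (x * x)) := by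
  have heC : (e : ℂ) ≠ 0 := Nat.cast_ne_zero.mpr H.small.e_pos.ne'
  have h1 : H.rel j x = -1 + (H.y : G → ℂ) (x * x) / (e : ℂ) := by
    have h2 := S.square x hx
    rw [S.rel_eq, Finset.sum_eq_zero (fun f hf => by rw [hI.X_val f hf]; simp), sub_zero, hI.y_val, S.y_one,
      Finset.sum_congr rfl fun f (hf : f ∈ S.Z) =>
        show (f : G → ℂ) j * (f : G → ℂ) x / (f : G → ℂ) 1 = ((S.sgn f : ℂ) * (f : G → ℂ) x) / (e : ℂ) by
          rw [hI.Z_val f hf, val_one, (S.Z_prop f hf).2.1]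
          push_cast
          field_simp,
      ← Finset.sum_div, ← h2]
    field_simp
    ring
  have hG : (Nat.card G : ℂ) = (Nat.card (Subgroup.centralizer ({x} : Set G)) : ℂ) *
      ((Subgroup.centralizer ({x} : Set G)).index : ℂ) := by
    exact_mod_cast (Subgroup.centralizer ({x} : Set G)).card_mul_index.symm
  have hC : (Nat.card (Subgroup.centralizer ({x} : Set G)) : ℂ) ≠ 0 := Nat.cast_ne_zero.mpr Nat.card_pos.ne'
  have hI' : ((Subgroup.centralizer ({x} : Set G)).index : ℂ) ≠ 0 :=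
    Nat.cast_ne_zero.mpr Subgroup.index_ne_zero_of_finite
  rw [H.classConst_eq hI.regular hx (Units.ne_zero _), h1, hG, (S.centralizer_invol hI).2, Nat.cast_mul]
  field_simp
  ring

end PlusShape

/-- With sign `+` there are few Sylow subgroups. -/
theorem few_of_plus [IsSimpleGroup G] (hperf : commutator G = ⊤) (S : PlusShape H) (hn : 1 ≤ n) :
    2 * n < p + 3 := by
  classical
  let _ : Fintype (norm D) := Fintype.ofFinite _
  haveI : Fact (Nat.Prime 2) := ⟨Nat.prime_two⟩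
  obtain ⟨j, hI⟩ := S.exists_invol hperf hn
  obtain ⟨hCj, hIj⟩ := S.centralizer_invol hI
  have hp5 := S.five_le
  have h2e := S.two_e
  have hj2 : orderOf j = 2 := orderOf_eq_prime (by rw [pow_two, hI.sq_one]) hI.ne_one
  have hcore : j ∉ Cfsg.pCore 2 G := by
    intro hm
    rcases (CfsgLib.Coprime.pCore_normal' (G := G) 2).eq_bot_or_eq_top with hb | ht
    · rw [hb, Subgroup.mem_bot] at hm; exact hI.ne_one hm
    · have h1 := CfsgLib.Coprime.pCore_isPGroup (G := G) 2
      rw [ht] at h1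
      obtain ⟨k, hk⟩ := IsPGroup.iff_card.mp h1
      rw [Subgroup.card_top, H.card] at hk
      have h2 : p ∣ 2 ^ k := hk ▸ dvd_mul_of_dvd_left (dvd_mul_right _ _) _
      have h3 := (Nat.prime_dvd_prime_iff_eq (Fact.out : p.Prime) Nat.prime_two).mp
        ((Fact.out : p.Prime).dvd_of_dvd_pow h2)
      omega
  obtain ⟨w₀, hw₀1, hw₀o, hw₀i⟩ := CfsgLib.Invol.exists_odd_inverted_of_notMem_pCore hj2 hcore
  -- an inverted element of odd prime order
  obtain ⟨r, hr, hrd⟩ := Nat.exists_prime_and_dvd (fun h => hw₀1 (orderOf_eq_one_iff.mp h))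
  haveI : Fact r.Prime := ⟨hr⟩
  set w₁ := w₀ ^ (orderOf w₀ / r) with hw₁
  have hw₁o : orderOf w₁ = r := by
    have hpos : orderOf w₀ / r ≠ 0 :=
      (Nat.div_pos (Nat.le_of_dvd (orderOf_pos w₀) hrd) hr.pos).ne'
    rw [hw₁, orderOf_pow_of_dvd hpos (Nat.div_dvd_of_dvd hrd), Nat.div_div_self hrd (orderOf_pos w₀).ne']
  have hw₁i : j * w₁ * j⁻¹ = w₁⁻¹ := by rw [hw₁, ← conj_pow, hw₀i, inv_pow]
  have hr2 : r ≠ 2 := fun h => by
    subst h
    exact Nat.not_even_iff_odd.mpr hw₀o (even_iff_two_dvd.mpr hrd)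
  have hw₁1 : w₁ ≠ 1 := fun h => by rw [h, orderOf_one] at hw₁o; exact hr.one_lt.ne hw₁o
  have hrp : r ≠ p := by
    intro h
    obtain ⟨c, i, y, hi, hcy⟩ := D.exists_section_conj (g := w₁) (by rw [hw₁o, h])
    rw [H.small.K_eq_one y, mul_one] at hcy
    have ha : c * j * c⁻¹ ∈ norm D := by
      have h1 : (c * j * c⁻¹) * D.xp i * (c * j * c⁻¹)⁻¹ ∈ D.Q := by
        rw [← hcy, show c * j * c⁻¹ * (c * w₁ * c⁻¹) * (c * j * c⁻¹)⁻¹ = c * (j * w₁ * j⁻¹) * c⁻¹ by group,
          hw₁i, show c * w₁⁻¹ * c⁻¹ = (c * w₁ * c⁻¹)⁻¹ by group, hcy]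
        exact D.Q.inv_mem (D.xp_mem i)
      have h2 := (H.small.mem_norm_of_conj (x := (c * j * c⁻¹)⁻¹) hi (by
        rw [inv_inv]; exact D.Q.le_normalizer h1)).2
      exact (Subgroup.inv_mem_iff _).mp h2
    have ho : orderOf (c * j * c⁻¹) = 2 := by rw [orderOf_conj_eq, hj2]
    have haQ : c * j * c⁻¹ ∉ D.Q := fun hm => by
      have h3 := orderOf_eq_p D.hQ hm (fun e => by rw [e, orderOf_one] at ho; omega)
      omega
    have h4 := H.small.orderOf_dvd ha haQ
    rw [ho] at h4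
    exact Nat.not_even_iff_odd.mpr S.odd_e (even_iff_two_dvd.mpr h4)
  have hnp : n * p + 1 = 2 ^ b := by
    have h1 := H.order_eq
    rw [S.q_two, S.d_eq, mul_comm (2 ^ b)] at h1
    exact Nat.eq_of_mul_eq_mul_left H.small.e_pos h1
  obtain ⟨g, hg⟩ := exists_conj_mem_norm H.small hw₁o (by
    rw [hnp]
    exact fun h => hr2 ((Nat.prime_dvd_prime_iff_eq hr Nat.prime_two).mp (hr.dvd_of_dvd_pow h)))
  -- the inverted element in the normalizer
  set w := g⁻¹ * w₁ * g with hw
  set a := g⁻¹ * j * g with ha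
  have hwo : orderOf w = r := by
    have h1 := orderOf_conj_eq g⁻¹ w₁
    rw [inv_inv] at h1
    rw [hw, h1, hw₁o]
  have hai : a * w * a⁻¹ = w⁻¹ := by
    rw [hw, ha, show g⁻¹ * j * g * (g⁻¹ * w₁ * g) * (g⁻¹ * j * g)⁻¹ = g⁻¹ * (j * w₁ * j⁻¹) * g by group, hw₁i]
    group
  have haj : IsConj j a := isConj_iff.mpr ⟨g⁻¹, by rw [inv_inv]⟩
  have hw1 : w ≠ 1 := fun h => by rw [h, orderOf_one] at hwo; exact hr.one_lt.ne hwo
  have hreg : ∀ {k : ℕ}, ¬ p ∣ orderOf (w ^ k) := fun {k} h => hrp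
    ((Nat.prime_dvd_prime_iff_eq (Fact.out : p.Prime) hr).mp (h.trans (hwo ▸ orderOf_pow_dvd k))).symm
  have hregw : ¬ p ∣ orderOf w := by simpa using hreg (k := 1)
  have hnotQ : ∀ v : G, orderOf v = r → v ∉ D.Q := fun v hv hm => by
    have h3 := orderOf_eq_p D.hQ hm (fun e => by rw [e, orderOf_one] at hv; exact hr.one_lt.ne hv)
    exact hrp (hv ▸ h3)
  have hwQ := hnotQ w hwo
  have hww : orderOf (w * w) = r := by
    rw [← pow_two, Nat.Coprime.orderOf_pow (by rw [hwo]; exact (Nat.coprime_primes hr Nat.prime_two).mpr hr2),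
      hwo]
  have hy0 : (H.y : G → ℂ) (w * w) = 0 :=
    H.y_eq_zero S.delta (mul_mem hg hg) (hnotQ _ hww)
  have hCw : Nat.card (Subgroup.centralizer ({w} : Set G)) = e := by
    have h1 := S.classConst_regular hI hregw
    rw [hy0, sub_zero] at h1
    have h2 : classConst j w (D.xp ((1 : (ZMod p)ˣ) : ZMod p)) *
        Nat.card (Subgroup.centralizer ({w} : Set G)) = p * e := by exact_mod_cast h1
    refine Nat.dvd_antisymm ?_ (le_card_centralizer H.small H.two_le hg hwQ)
    exact (((Fact.out : p.Prime).coprime_iff_not_dvd.mpr (not_dvd_centralizer H.small hregw hw1)).symm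
      ).dvd_of_dvd_mul_left ⟨_, by rw [← h2, mul_comm]⟩
  have hIw : (Subgroup.centralizer ({w} : Set G)).index = p * 2 ^ b := by
    have h1 := (Subgroup.centralizer ({w} : Set G)).card_mul_index
    rw [hCw, H.card, S.q_two, S.d_eq, mul_comm _ e] at h1
    exact Nat.eq_of_mul_eq_mul_left H.small.e_pos h1
  -- counting the inverted pairs
  let Cj := {x : G // IsConj j x}
  let Cw := {x : G // IsConj w x}
  let R : Set (Cj × Cw) := {P | (P.1 : G) * P.2 * (P.1 : G)⁻¹ = (P.2 : G)⁻¹}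
  have hup : Nat.card R ≤ (p * e) * (p * e) := by
    rw [← hIj, ← card_isConj, ← Nat.card_prod]
    refine Nat.card_le_card_of_injective
      (fun P : R => ((P.1.1, ⟨(P.1.2 : G) * P.1.1 * (P.1.2 : G)⁻¹,
        P.1.1.2.trans (isConj_iff.mpr ⟨_, rfl⟩)⟩) : Cj × Cj)) ?_
    rintro ⟨⟨a₁, v₁⟩, h₁⟩ ⟨⟨a₂, v₂⟩, h₂⟩ he
    simp only [Prod.mk.injEq] at he
    obtain ⟨rfl, he⟩ := he
    replace he := congrArg Subtype.val he
    dsimp only at he
    simp only [R, Set.mem_setOf_eq] at h₁ h₂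
    have key : ∀ v : G, (a₁ : G) * v * (a₁ : G)⁻¹ = v⁻¹ → v * a₁ * v⁻¹ = v * v * a₁ := fun v hv => by
      rw [mul_assoc v v, mul_assoc v]
      congr 1
      have h5 : (a₁ : G) * v⁻¹ * (a₁ : G)⁻¹ = v := by
        have := congrArg (·⁻¹) hv
        simpa [mul_assoc] using this
      calc (a₁ : G) * v⁻¹ = (a₁ : G) * v⁻¹ * (a₁ : G)⁻¹ * a₁ := by group
        _ = v * a₁ := by rw [h5]
    rw [key _ h₁, key _ h₂] at he
    have h6 := mul_right_cancel he
    have hord : ∀ v : Cw, orderOf (v : G) = r := fun v => by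
      obtain ⟨c, hc⟩ := isConj_iff.mp v.2
      rw [← hc, orderOf_conj_eq, hwo]
    have hroot : ∀ v : Cw, (v : G) = ((v : G) * v) ^ ((r + 1) / 2) := fun v => by
      obtain ⟨k, hk⟩ := hr.odd_of_ne_two hr2
      rw [← pow_two, ← pow_mul, show 2 * ((r + 1) / 2) = r + 1 by omega, pow_succ, ← hord v,
        pow_orderOf_eq_one, one_mul]
    have h7 : v₁ = v₂ := Subtype.ext (by rw [hroot v₁, hroot v₂, h6])
    subst h7
    rfl
  have hlow : (p * 2 ^ b) * e ≤ Nat.card R := by
    calc (p * 2 ^ b) * e = Nat.card (Cw × Subgroup.centralizer ({w} : Set G)) := by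
          rw [Nat.card_prod, hCw, card_isConj, hIw]
      _ ≤ Nat.card R := by
          choose c hc using fun v : Cw => isConj_iff.mp v.2
          refine Nat.card_le_card_of_injective (fun P : Cw × Subgroup.centralizer ({w} : Set G) =>
            (⟨(⟨c P.1 * P.2 * a * (c P.1 * P.2)⁻¹, haj.trans (isConj_iff.mpr ⟨_, rfl⟩)⟩, P.1), ?_⟩ : R)) ?_
          · show c P.1 * P.2 * a * (c P.1 * P.2)⁻¹ * (P.1 : G) * (c P.1 * P.2 * a * (c P.1 * P.2)⁻¹)⁻¹ = (P.1 : G)⁻¹
            have hcm : (P.2 : G) * w = w * P.2 := Subgroup.mem_centralizer_singleton_iff.mp P.2.2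
            have hcw : (c P.1 * P.2)⁻¹ * (P.1 : G) * (c P.1 * P.2) = w := by
              calc (c P.1 * P.2)⁻¹ * (P.1 : G) * (c P.1 * P.2)
                  = (P.2 : G)⁻¹ * ((c P.1)⁻¹ * (P.1 : G) * c P.1) * P.2 := by group
                _ = (P.2 : G)⁻¹ * w * P.2 := by
                    rw [show (c P.1)⁻¹ * (P.1 : G) * c P.1 = w by
                      have h0 := hc P.1
                      calc (c P.1)⁻¹ * (P.1 : G) * c P.1
                          = (c P.1)⁻¹ * (c P.1 * w * (c P.1)⁻¹) * c P.1 := by rw [h0]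
                        _ = w := by group]
                _ = w := by rw [mul_assoc, ← hcm, inv_mul_cancel_left]
            calc _ = c P.1 * P.2 * (a * ((c P.1 * P.2)⁻¹ * (P.1 : G) * (c P.1 * P.2)) * a⁻¹) * (c P.1 * P.2)⁻¹ := by
                  group
              _ = c P.1 * P.2 * w⁻¹ * (c P.1 * P.2)⁻¹ := by rw [hcw, hai]
              _ = c P.1 * P.2 * ((c P.1 * P.2)⁻¹ * (P.1 : G) * (c P.1 * P.2))⁻¹ * (c P.1 * P.2)⁻¹ := by
                  rw [hcw]
              _ = (P.1 : G)⁻¹ := by group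
          · rintro ⟨v₁, u₁⟩ ⟨v₂, u₂⟩ heq
            simp only [Subtype.mk.injEq, Prod.mk.injEq] at heq
            obtain ⟨h1, rfl⟩ := heq
            replace h1 := congrArg Subtype.val h1
            dsimp only at h1
            refine Prod.ext rfl ?_
            have h2 : ((u₂⁻¹ * u₁ : Subgroup.centralizer ({w} : Set G)) : G) ∈
                Subgroup.centralizer ({a} : Set G) := by
              rw [Subgroup.mem_centralizer_singleton_iff]
              push_cast
              calc (u₂ : G)⁻¹ * u₁ * a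
                  = (u₂ : G)⁻¹ * (c v₁)⁻¹ * (c v₁ * u₁ * a * (c v₁ * u₁)⁻¹) * (c v₁) * u₁ := by group
                _ = (u₂ : G)⁻¹ * (c v₁)⁻¹ * (c v₁ * u₂ * a * (c v₁ * u₂)⁻¹) * (c v₁) * u₁ := by rw [h1]
                _ = a * ((u₂ : G)⁻¹ * u₁) := by group
            have h3 : orderOf (u₂⁻¹ * u₁) ∣ e := hCw ▸ orderOf_dvd_natCard _
            have hCa : Nat.card (Subgroup.centralizer ({a} : Set G)) = 2 ^ b := by
              rw [← hCj, ha]
              have := CfsgLib.Char.FewSylow.card_centralizer_conj g⁻¹ j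
              simpa [mul_assoc] using this
            have h4 : orderOf (u₂⁻¹ * u₁) ∣ 2 ^ b := by
              rw [← Subgroup.orderOf_coe, ← hCa]
              exact Subgroup.orderOf_dvd_natCard _ h2
            have hcop : Nat.Coprime (2 ^ b) e := Nat.Coprime.pow_left b (Nat.coprime_two_left.mpr S.odd_e)
            have h5 := Nat.eq_one_of_dvd_coprimes hcop h4 h3
            exact (inv_mul_eq_one.mp (orderOf_eq_one_iff.mp h5)).symm
  have h8 := hlow.trans hup
  have hp0 : 0 < p * e := Nat.mul_pos (by omega) H.small.e_pos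
  have h9 : 2 ^ b ≤ p * e := by
    refine Nat.le_of_mul_le_mul_left ?_ hp0
    calc p * e * 2 ^ b = p * 2 ^ b * e := by ring
      _ ≤ p * e * (p * e) := h8
  have h10 : n * p < p * e := by omega
  have h11 : n < e := Nat.lt_of_mul_lt_mul_left (a := p) (by rwa [mul_comm p n])
  omega

end CfsgLib.Char.FewSylow.QPower
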