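import Cfsg.Agent.Lib.Char.FewSylow.QPower.Facts
import Cfsg.Agent.Lib.Char.SquareChar

/-!
# Sign `+`: the principal block

The squares of an exceptional character determine the principal block: apart from the trivial
character there are `(e - 1)/2` characters of degree `p + 1` and as many of degree `p - 1`.
-/

set_option autoImplicit false
set_option linter.unusedSectionVars false
set_option linter.style.haveILetI false

open scoped ComplexConjugate

namespace CfsgLib.Char.FewSylow.QPower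

open Cfsg CfsgLib.Char CfsgLib.Block CfsgLib.Block.Cyclic CfsgLib.Char.FewSylow

universe u

variable {p : ℕ} [Fact p.Prime] {G : Type u} [Group G] [Fintype G] [DecidableEq G]
  {D : CycSetup p G} [Fintype D.K] {n e q b d : ℕ}

/-- The shape of the block for sign `+`. -/
structure PlusShape (H : QData D n e q b d) [Fintype (IrrCharacter G)] where
  X : Finset (IrrCharacter G)
  Z : Finset (IrrCharacter G)
  sgn : IrrCharacter G → ℤ
  delta : H.E.δ = 1
  d_eq : d = e
  odd_e : Odd e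
  q_two : q = 2
  m : ℕ
  p_eq : p + 1 = 2 ^ m
  sum_u : ∀ F : IrrCharacter G → ℂ, ∑ f : IrrCharacter G, (H.E.u f : ℂ) * F f =
    -F (Block.oneChar G) - ∑ f ∈ X, F f + ∑ f ∈ Z, F f
  card_X : 2 * X.card + 1 = e
  card_Z : 2 * Z.card + 1 = e
  X_prop : ∀ f ∈ X, H.E.u f = -1 ∧ deg f = p + 1 ∧ fx D f = 2
  Z_prop : ∀ f ∈ Z, H.E.u f = 1 ∧ deg f = 2 * e ∧ fx D f = 0
  normSq : ∀ g : G, (H.y : G → ℂ) g * conj ((H.y : G → ℂ) g) = 1 + ∑ f ∈ X, (f : G → ℂ) g
  sq : ∀ g : G, ¬ p ∣ orderOf g →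
    (H.y : G → ℂ) g * (H.y : G → ℂ) g = (∑ f ∈ Z, (f : G → ℂ) g) + (H.y : G → ℂ) g
  square : ∀ g : G, ¬ p ∣ orderOf g →
    (H.y : G → ℂ) (g * g) + (H.y : G → ℂ) g = ∑ f ∈ Z, (sgn f : ℂ) * (f : G → ℂ) g
  sgn_cases : ∀ f ∈ Z, sgn f = 1 ∨ sgn f = -1
  sgn_sum : ∑ f ∈ Z, sgn f = 1

namespace QData

variable (H : QData D n e q b d)
include H

theorem plus_eq_e (hd : H.E.δ = 1) : d = e ∧ 2 * e = p - 1 := by
  rcases H.shape with ⟨-, h1, h2⟩ | ⟨h1, -, -⟩
  · exact ⟨h1, h2⟩
  · rw [hd] at h1; exact absurd h1 (by decide)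

theorem y_eq_zero [Fintype (norm D)] (hd : H.E.δ = 1) {g : G} (hg : g ∈ norm D) (hgQ : g ∉ D.Q) :
    (H.y : G → ℂ) g = 0 := by
  have h0 : fixd D (H.y : G → ℂ) = 0 := by
    rw [H.small.fixd_eq, QData.y, H.fx_Y, if_pos hd, Nat.cast_zero]
  rw [← H.small.sum_mult_of_notMem (isClassFunction_irr H.y) (g := ⟨g, hg⟩) hgQ]
  exact Finset.sum_eq_zero fun μ _ => by
    rw [H.small.mult_eq_zero_of_fixd (isCharacter_irr _) h0, zero_mul]

theorem multN_y (hd : H.E.δ = 1) (j : (ZMod p)ˣ) [Decidable ((1 : (ZMod p)ˣ ⧸ D.expE) = (j : (ZMod p)ˣ ⧸ D.expE))] :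
    (D.multN H.y j : ℤ) = if (1 : (ZMod p)ˣ ⧸ D.expE) = (j : (ZMod p)ˣ ⧸ D.expE) then 1 else 0 := by
  have h1 : D.vec H.y j = H.E.δ * (if (1 : (ZMod p)ˣ ⧸ D.expE) = (j : (ZMod p)ˣ ⧸ D.expE) then 1 else 0) :=
    H.E.vec_Y 1 j
  rw [hd, one_mul, CycSetup.vec] at h1
  have h0 : D.multN H.y 0 = 0 := by
    show fx D (H.E.Y 1) = 0
    rw [H.fx_Y, if_pos hd]
  rw [h0, Nat.cast_zero, sub_zero] at h1
  exact h1

theorem multN_y_zero (hd : H.E.δ = 1) : D.multN H.y 0 = 0 := by
  show fx D (H.E.Y 1) = 0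
  rw [H.fx_Y, if_pos hd]

/-- The fixed points of the norm square. -/
theorem fixd_normSq_y (hd : H.E.δ = 1) :
    fixd D (fun g => (H.y : G → ℂ) g * conj ((H.y : G → ℂ) g)) = (e : ℂ) := by
  classical
  let _ : Fintype (norm D) := Fintype.ofFinite _
  rw [H.small.fixd_normSq]
  norm_cast
  rw [sum_zmod_split (fun j : ZMod p => D.multN H.y j * D.multN H.y j), H.multN_y_zero hd, zero_mul, zero_add]
  have h1 : ∑ j : (ZMod p)ˣ, ((D.multN H.y j * D.multN H.y j : ℕ) : ℤ) = (e : ℤ) := by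
    simp only [Nat.cast_mul, H.multN_y hd, ite_mul, one_mul, zero_mul]
    simp only [← ite_and, and_self]
    rw [Finset.sum_boole, coset_card, H.small.card_expE]
  exact_mod_cast h1

/-- The fixed points of the square. -/
theorem fixd_sq_y (hd : H.E.δ = 1) (hodd : Odd e) :
    fixd D (fun g => (H.y : G → ℂ) g * (H.y : G → ℂ) g) = 0 := by
  classical
  rw [fixd_mul H.small]
  norm_cast
  refine Finset.sum_eq_zero fun j _ => ?_
  by_cases hj : j = 0
  · rw [hj, H.multN_y_zero hd, zero_mul]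
  · obtain ⟨v, rfl⟩ : ∃ v : (ZMod p)ˣ, (v : ZMod p) = j := ⟨Units.mk0 j hj, rfl⟩
    have h1 := H.multN_y hd v
    have h2 := H.multN_y hd (-v)
    rw [Units.val_neg] at h2
    by_contra hne
    obtain ⟨ha, hb⟩ := mul_ne_zero_iff.mp hne
    have e1 : (1 : (ZMod p)ˣ ⧸ D.expE) = (v : (ZMod p)ˣ ⧸ D.expE) := by
      by_contra h; rw [if_neg h] at h1; exact ha (by exact_mod_cast h1)
    have e2 : (1 : (ZMod p)ˣ ⧸ D.expE) = ((-v : (ZMod p)ˣ) : (ZMod p)ˣ ⧸ D.expE) := by
      by_contra h; rw [if_neg h] at h2; exact hb (by exact_mod_cast h2)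
    have h3 : v⁻¹ * -v ∈ D.expE := QuotientGroup.eq.mp (e1.symm.trans e2)
    rw [mul_neg, inv_mul_cancel] at h3
    have hp3 : p ≠ 2 := by have := H.d_lt; have := H.d_two; omega
    have h4 : orderOf (⟨-1, h3⟩ : D.expE) = 2 := by
      refine orderOf_eq_prime (Subtype.ext ?_) (fun he => ?_)
      · show ((-1 : (ZMod p)ˣ)) ^ 2 = 1
        rw [neg_one_sq]
      · have h5 : ((-1 : (ZMod p)ˣ) : ZMod p) = ((1 : (ZMod p)ˣ) : ZMod p) :=
          congrArg Units.val (congrArg Subtype.val he)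
        rw [Units.val_neg, Units.val_one] at h5
        haveI : Fact (2 < p) := ⟨by have := (Fact.out : p.Prime).two_le; omega⟩
        exact ZMod.neg_one_ne_one h5
    have h5 := orderOf_dvd_natCard (⟨-1, h3⟩ : D.expE)
    rw [h4, H.small.card_expE] at h5
    exact Nat.not_even_iff_odd.mpr hodd (even_iff_two_dvd.mpr h5)

/-- The excess `2 deg - (p + 1) fx`. -/
theorem excess (hd : H.E.δ = 1) (hperf : commutator G = ⊤) {f : IrrCharacter G}
    (hf : f ≠ Block.oneChar G) :
    0 ≤ 2 * (deg f : ℤ) - ((p : ℤ) + 1) * fx D f ∧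
      (2 * (deg f : ℤ) - ((p : ℤ) + 1) * fx D f = 0 → H.E.u f = -1 ∧ fx D f = 2 ∧ deg f = p + 1) := by
  classical
  have hp2 : (2 : ℤ) ≤ p := by exact_mod_cast (Fact.out : p.Prime).two_le
  have hpos : (0 : ℤ) < deg f := by exact_mod_cast deg_pos f
  have hfx0 : (0 : ℤ) ≤ fx D f := Int.natCast_nonneg _
  by_cases hu : H.E.u f = 0
  · have h0 : 0 < 2 * (deg f : ℤ) - ((p : ℤ) + 1) * fx D f := by
      by_cases hY : ∃ k, H.E.Y k = f
      · obtain ⟨k, rfl⟩ := hY
        rw [H.fx_Y, if_pos hd, Nat.cast_zero, mul_zero, sub_zero]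
        linarith
      · push Not at hY
        have h1 := H.small.deg_eq_vec f
        rw [Finset.sum_eq_zero fun j _ => by rw [H.E.vec_eq, hu, if_neg fun e => hY _ e.symm, mul_zero,
          add_zero], add_zero] at h1
        have h2 : 1 ≤ (fx D f : ℤ) := by
          by_contra h3
          rw [show (fx D f : ℤ) = 0 by omega, mul_zero] at h1
          omega
        rw [h1]
        nlinarith
    exact ⟨h0.le, fun h => absurd h h0.ne'⟩
  · have h1 := H.deg_u hu
    rcases H.E.u_cases f with hz | hz | hz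
    · exact absurd hz hu
    · have h0 : 0 < 2 * (deg f : ℤ) - ((p : ℤ) + 1) * fx D f := by
        rw [h1, hz]
        nlinarith
      exact ⟨h0.le, fun h => absurd h h0.ne'⟩
    · rw [hz] at h1
      have h2 : 2 ≤ (fx D f : ℤ) := by
        by_contra h3
        have hd1 : (deg f : ℤ) ≠ 1 := fun h => hf (hlin_of_perfect hperf (by exact_mod_cast h))
        have : (p : ℤ) * fx D f ≤ p * 1 := mul_le_mul_of_nonneg_left (by omega) (by omega)
        omega
      have e1 : 2 * (deg f : ℤ) - ((p : ℤ) + 1) * fx D f = ((p : ℤ) - 1) * ((fx D f : ℤ) - 2) := by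
        rw [h1]; ring
      refine ⟨e1 ▸ mul_nonneg (by omega) (by omega), fun h => ?_⟩
      rw [e1, mul_eq_zero] at h
      have h3 : (fx D f : ℤ) = 2 := by omega
      rw [h3] at h1
      exact ⟨hz, by exact_mod_cast h3, by omega⟩

theorem mult_normSq [Fintype (norm D)] (hd : H.E.δ = 1) (μ : D.expE →* ℂˣ) :
    H.small.mult (fun g => (H.y : G → ℂ) g * conj ((H.y : G → ℂ) g)) μ = 1 := by
  classical
  have hind : ∀ ν : D.expE →* ℂˣ,
      H.small.mult (fun g => (H.y : G → ℂ) g * conj ((H.y : G → ℂ) g)) ν =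
        H.small.mult (fun g => (H.y : G → ℂ) g * conj ((H.y : G → ℂ) g)) μ := by
    intro ν
    simp only [Small.mult, classInner]
    congr 1
    refine Finset.sum_congr rfl fun g _ => ?_
    by_cases hg : (g : G) ∈ D.Q
    · simp only [Small.lam, (H.small.act_eq_one_iff g).mpr hg, map_one]
    · simp only [H.y_eq_zero hd g.2 hg, zero_mul]
  have h1 := H.small.sum_mult (fun g => (H.y : G → ℂ) g * conj ((H.y : G → ℂ) g))
  rw [H.fixd_normSq_y hd, Finset.sum_congr rfl fun ν _ => hind ν, Finset.sum_const, Finset.card_univ,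
    ← Nat.card_eq_fintype_card, BSW.card_dual, H.small.card_expE, nsmul_eq_mul] at h1
  exact (mul_eq_left₀ (Nat.cast_ne_zero.mpr H.small.e_pos.ne')).mp h1

/-- The shape of the block. -/
theorem exists_plusShape [Fintype (IrrCharacter G)] (hd : H.E.δ = 1) (hperf : commutator G = ⊤) :
    Nonempty (PlusShape H) := by
  classical
  let _ : Fintype (norm D) := Fintype.ofFinite _
  obtain ⟨hde, h2e⟩ := H.plus_eq_e hd
  have he := H.two_le
  have hyd : (H.y : G → ℂ) 1 = (e : ℂ) := by rw [val_one, H.deg_y, hde]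
  set one := Block.oneChar G with hone
  -- the norm square
  have hψ : IsCharacter G (fun g => (H.y : G → ℂ) g * conj ((H.y : G → ℂ) g)) :=
    isCharacter_mul (isCharacter_irr _) (isCharacter_conj (isCharacter_irr _))
  obtain ⟨c, hexp, hc, hnorm⟩ := exists_coeff hψ
  have hc1 : c one = 1 := by
    have h1 := hc one
    have h2 : classInner (fun g => (H.y : G → ℂ) g * conj ((H.y : G → ℂ) g)) (one : G → ℂ) =
        classInner (H.y : G → ℂ) (H.y : G → ℂ) := by
      show classInner _ (fun _ => 1) = _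
      simp [classInner]
    rw [h2, classInner_irr_self] at h1
    exact_mod_cast h1.symm
  have hdeg : ∑ f : IrrCharacter G, c f * deg f = e * e := by
    have h1 := hexp 1
    simp only [hyd, map_natCast, val_one] at h1
    exact_mod_cast h1.symm
  have hfix : ∑ f : IrrCharacter G, c f * fx D f = e := by
    have h1 := fixd_sum_mul H.small hexp
    rw [H.fixd_normSq_y hd] at h1
    exact_mod_cast h1.symm
  have hmu : ∀ μ : D.expE →* ℂˣ, ∑ f : IrrCharacter G, c f * H.small.mN f μ = 1 := by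
    intro μ
    have h1 := H.mult_normSq hd μ
    have h2 : H.small.mult (fun g => (H.y : G → ℂ) g * conj ((H.y : G → ℂ) g)) μ =
        ∑ f : IrrCharacter G, (c f : ℂ) * H.small.mult (f : G → ℂ) μ := by
      simp only [Small.mult, classInner, hexp, Finset.sum_mul, Finset.mul_sum]
      rw [Finset.sum_comm]
      exact Finset.sum_congr rfl fun f _ => Finset.sum_congr rfl fun g _ => by ring
    rw [h2] at h1
    simp only [H.small.mult_mN] at h1
    exact_mod_cast h1
  -- its constituents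
  have hz : ∀ f, f ≠ one → c f ≠ 0 → H.E.u f = -1 ∧ fx D f = 2 ∧ deg f = p + 1 := by
    have hsum : ∑ f ∈ Finset.univ.erase one,
        (c f : ℤ) * (2 * (deg f : ℤ) - ((p : ℤ) + 1) * fx D f) = 0 := by
      have e1 : ∑ f : IrrCharacter G, (c f : ℤ) * (2 * (deg f : ℤ) - ((p : ℤ) + 1) * fx D f) =
          2 * ((e : ℤ) * e) - ((p : ℤ) + 1) * e := by
        have h1 : ((∑ f : IrrCharacter G, c f * deg f : ℕ) : ℤ) = (e : ℤ) * e := by exact_mod_cast hdeg
        have h2 : ((∑ f : IrrCharacter G, c f * fx D f : ℕ) : ℤ) = e := by exact_mod_cast hfix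
        push_cast at h1 h2
        rw [← h1, ← h2]
        simp only [Finset.mul_sum, ← Finset.sum_sub_distrib]
        exact Finset.sum_congr rfl fun f _ => by ring
      rw [← Finset.add_sum_erase _ _ (Finset.mem_univ one), hc1, hone, deg_one, H.small.fx_one] at e1
      have h3 : (p : ℤ) = 2 * e + 1 := by
        have := (Fact.out : p.Prime).two_le
        omega
      rw [h3] at e1 ⊢
      push_cast at e1 ⊢
      linarith
    intro f hf hcf
    have h1 := (Finset.sum_eq_zero_iff_of_nonneg fun g hg => mul_nonneg (Int.natCast_nonneg _)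
      (H.excess hd hperf (Finset.mem_erase.mp hg).1).1).mp hsum f (Finset.mem_erase.mpr ⟨hf, Finset.mem_univ _⟩)
    exact (H.excess hd hperf hf).2 ((mul_eq_zero.mp h1).resolve_left (by exact_mod_cast hcf))
  set X := Finset.univ.filter fun f => f ≠ one ∧ c f ≠ 0 with hX
  have hcX : ∀ f ∈ X, c f = 1 := by
    intro f hf
    obtain ⟨hf1, hf2⟩ := (Finset.mem_filter.mp hf).2
    obtain ⟨μ, hμ⟩ : ∃ μ, H.small.mN f μ ≠ 0 := by
      by_contra hall
      push Not at hall
      have h1 := H.small.sum_mN f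
      rw [Finset.sum_eq_zero fun μ _ => hall μ, (hz f hf1 hf2).2.1] at h1
      exact absurd h1 (by decide)
    have h2 : c f * H.small.mN f μ ≤ 1 := by
      rw [← hmu μ]
      exact Finset.single_le_sum (f := fun g => c g * H.small.mN g μ) (fun _ _ => Nat.zero_le _)
        (Finset.mem_univ f)
    have h3 : c f ≤ c f * H.small.mN f μ := Nat.le_mul_of_pos_right _ (Nat.pos_of_ne_zero hμ)
    omega
  have hsplitX : ∀ F : IrrCharacter G → ℂ, ∑ f : IrrCharacter G, (c f : ℂ) * F f = F one + ∑ f ∈ X, F f := by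
    intro F
    rw [← Finset.add_sum_erase _ _ (Finset.mem_univ one), hc1, Nat.cast_one, one_mul]
    congr 1
    refine (Finset.sum_subset (fun f hf => Finset.mem_erase.mpr ⟨(Finset.mem_filter.mp hf).2.1, Finset.mem_univ _⟩)
      (fun f hf hfX => ?_)).symm.trans (Finset.sum_congr rfl fun f hf => by rw [hcX f hf, Nat.cast_one, one_mul])
    have : c f = 0 := by
      by_contra h
      exact hfX (Finset.mem_filter.mpr ⟨Finset.mem_univ _, (Finset.mem_erase.mp hf).1, h⟩)
    rw [this, Nat.cast_zero, zero_mul]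
  have hcardX : 2 * X.card + 1 = e := by
    have h1 := hsplitX fun f => (fx D f : ℂ)
    rw [Finset.sum_congr rfl fun f (hf : f ∈ X) => show (fx D f : ℂ) = 2 by
      rw [(hz f (Finset.mem_filter.mp hf).2.1 (Finset.mem_filter.mp hf).2.2).2.1]; norm_num,
      Finset.sum_const, nsmul_eq_mul, hone, H.small.fx_one] at h1
    have h2 : ((∑ f : IrrCharacter G, c f * fx D f : ℕ) : ℂ) = (e : ℂ) := by exact_mod_cast hfix
    push_cast at h2
    rw [h2] at h1
    have h3 : ((2 * X.card + 1 : ℕ) : ℂ) = (e : ℂ) := by push_cast; rw [h1]; ring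
    exact_mod_cast h3
  have hodd : Odd e := ⟨X.card, hcardX.symm⟩
  have hnormSq : ∀ g : G, (H.y : G → ℂ) g * conj ((H.y : G → ℂ) g) = 1 + ∑ f ∈ X, (f : G → ℂ) g :=
    fun g => (hexp g).trans (hsplitX fun f => (f : G → ℂ) g)
  have hXprop : ∀ f ∈ X, H.E.u f = -1 ∧ deg f = p + 1 ∧ fx D f = 2 := fun f hf => by
    obtain ⟨h1, h2, h3⟩ := hz f (Finset.mem_filter.mp hf).2.1 (Finset.mem_filter.mp hf).2.2
    exact ⟨h1, h3, h2⟩
  -- the arithmetic
  obtain ⟨f0, hf0⟩ := Finset.card_pos.mp (show 0 < X.card by omega)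
  have hp2e : p + 1 = 2 * (e + 1) := by omega
  have hpd : p + 1 ∣ q ^ b * e := by
    have h1 := H.dvd_deg_u (f := f0) (by rw [(hXprop f0 hf0).1]; decide)
    rwa [(hXprop f0 hf0).2.1, hde] at h1
  have hq2 : q = 2 := by
    have h1 : e + 1 ∣ q ^ b * e := dvd_trans ⟨2, by omega⟩ hpd
    have h2 : e + 1 ∣ q ^ b := (Nat.coprime_self_add_left.mpr (Nat.coprime_one_left e)).dvd_of_dvd_mul_right
      (by rwa [show e + 1 = e + 1 from rfl] at h1)
    have h3 : 2 ∣ q ^ b := dvd_trans ⟨X.card + 1, by omega⟩ h2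
    exact ((Nat.prime_dvd_prime_iff_eq Nat.prime_two H.prime_q).mp (Nat.prime_two.dvd_of_dvd_pow h3)).symm
  obtain ⟨m, hm⟩ : ∃ m, p + 1 = 2 ^ m := by
    have hcop : Nat.Coprime (p + 1) e := by
      rw [hp2e]
      refine Nat.Coprime.mul_left ?_ (Nat.coprime_self_add_left.mpr (Nat.coprime_one_left e))
      exact Nat.coprime_two_left.mpr hodd
    rw [hq2] at hpd
    obtain ⟨m, -, hm⟩ := (Nat.dvd_prime_pow Nat.prime_two).mp (hcop.dvd_of_dvd_mul_right hpd)
    exact ⟨m, hm⟩
  have hXodd : Odd X.card := by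
    have h4 : 8 ≤ 2 ^ m := by omega
    have hm3 : 3 ≤ m := by
      by_contra h
      have : 2 ^ m ≤ 2 ^ 2 := Nat.pow_le_pow_right two_pos (by omega)
      omega
    obtain ⟨m', rfl⟩ : ∃ m', m = m' + 3 := ⟨m - 3, by omega⟩
    rw [pow_add] at hm
    exact ⟨2 ^ m' - 1, by have := Nat.one_le_two_pow (n := m'); omega⟩
  -- the square
  have hψ2 : IsCharacter G (fun g => (H.y : G → ℂ) g * (H.y : G → ℂ) g) :=
    isCharacter_mul (isCharacter_irr _) (isCharacter_irr _)
  obtain ⟨c', hexp', hc', hnorm'⟩ := exists_coeff hψ2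
  have hfix' : ∀ f, c' f ≠ 0 → fx D f = 0 := by
    have h1 := fixd_sum_mul H.small hexp'
    rw [H.fixd_sq_y hd hodd] at h1
    have h2 : ∑ f : IrrCharacter G, c' f * fx D f = 0 := by exact_mod_cast h1.symm
    intro f hf
    exact (Nat.mul_eq_zero.mp ((Finset.sum_eq_zero_iff.mp h2) f (Finset.mem_univ f))).resolve_left hf
  set Z := Finset.univ.filter fun f => H.E.u f = 1 ∧ c' f ≠ 0 with hZ
  have hZprop : ∀ f ∈ Z, H.E.u f = 1 ∧ deg f = 2 * e ∧ fx D f = 0 := by
    intro f hf
    obtain ⟨h1, h2⟩ := (Finset.mem_filter.mp hf).2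
    have h3 := H.deg_u (f := f) (by rw [h1]; decide)
    rw [hfix' f h2, h1] at h3
    push_cast at h3
    exact ⟨h1, by omega, hfix' f h2⟩
  have hsplitZ : ∀ F : IrrCharacter G → ℂ, ∑ f : IrrCharacter G, (c' f : ℂ) * F f =
      (∑ f ∈ Z, (c' f : ℂ) * F f) + ∑ k, (c' (H.E.Y k) : ℂ) * F (H.E.Y k) := by
    intro F
    rw [← Finset.sum_image (g := H.E.Y) (f := fun f => (c' f : ℂ) * F f) (fun a _ b _ h => H.E.inj h),
      ← Finset.sum_union]
    · refine (Finset.sum_subset (Finset.subset_univ _) fun f _ hf => ?_).symm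
      rw [Finset.mem_union, not_or, Finset.mem_image] at hf
      suffices c' f = 0 by rw [this, Nat.cast_zero, zero_mul]
      by_contra hne
      have hfx := hfix' f hne
      have hpos := deg_pos f
      by_cases hu : H.E.u f = 0
      · refine hf.2 ?_
        by_contra hY
        push Not at hY
        have h1 := H.small.deg_eq_vec f
        rw [Finset.sum_eq_zero fun j _ => by rw [H.E.vec_eq, hu, if_neg fun e => hY _ (Finset.mem_univ _) e.symm,
          mul_zero, add_zero], add_zero, hfx] at h1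
        omega
      · rcases H.E.u_cases f with h | h | h
        · exact hu h
        · exact hf.1 (Finset.mem_filter.mpr ⟨Finset.mem_univ _, h, hne⟩)
        · have h1 := H.deg_u hu
          rw [h, hfx] at h1
          push_cast at h1
          omega
    · rw [Finset.disjoint_left]
      intro f hf hf'
      obtain ⟨k, -, rfl⟩ := Finset.mem_image.mp hf'
      have := (Finset.mem_filter.mp hf).2.1
      rw [H.E.u_Y] at this
      exact absurd this (by decide)
  have hdeg' : 2 * (∑ f ∈ Z, c' f) + ∑ k, c' (H.E.Y k) = e := by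
    have h1 := hexp' 1
    rw [hsplitZ, hyd, Finset.sum_congr rfl fun f (hf : f ∈ Z) =>
      show (c' f : ℂ) * (f : G → ℂ) 1 = (c' f : ℂ) * ((2 * e : ℕ) : ℂ) by rw [val_one, (hZprop f hf).2.1],
      Finset.sum_congr rfl fun k _ =>
      show (c' (H.E.Y k) : ℂ) * (H.E.Y k : G → ℂ) 1 = (c' (H.E.Y k) : ℂ) * (e : ℂ) by
        rw [val_one, (H.deg_Y k).trans hde], ← Finset.sum_mul, ← Finset.sum_mul] at h1
    have h2 : ((2 * (∑ f ∈ Z, c' f) + ∑ k, c' (H.E.Y k) : ℕ) : ℂ) * (e : ℂ) = (e : ℂ) * (e : ℂ) := by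
      rw [h1]; push_cast; ring
    exact_mod_cast mul_right_cancel₀ (Nat.cast_ne_zero.mpr H.small.e_pos.ne' : (e : ℂ) ≠ 0) h2
  have hsq' : (∑ f ∈ Z, c' f * c' f) + ∑ k, c' (H.E.Y k) * c' (H.E.Y k) = 1 + X.card := by
    have h1 : classInner (fun g => (H.y : G → ℂ) g * (H.y : G → ℂ) g)
        (fun g => (H.y : G → ℂ) g * (H.y : G → ℂ) g) =
        classInner (fun g => (H.y : G → ℂ) g * conj ((H.y : G → ℂ) g))
          (fun g => (H.y : G → ℂ) g * conj ((H.y : G → ℂ) g)) := by
      simp only [classInner, map_mul, Complex.conj_conj]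
      congr 1
      exact Finset.sum_congr rfl fun g _ => by ring
    rw [hnorm, hnorm'] at h1
    push_cast at h1
    rw [hsplitZ, hsplitX, hc1, Finset.sum_congr rfl fun f (hf : f ∈ X) => show (c f : ℂ) = 1 by
      rw [hcX f hf, Nat.cast_one], Finset.sum_const, nsmul_one] at h1
    exact_mod_cast h1
  have ht : Fintype.card ((ZMod p)ˣ ⧸ D.expE) = 2 := by
    have h1 := H.small.mul_numY
    rw [← h2e, mul_comm 2] at h1
    rw [← Nat.card_eq_fintype_card]
    exact Nat.eq_of_mul_eq_mul_left H.small.e_pos h1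
  have hη : ∑ k, c' (H.E.Y k) = 1 := by
    have h1 := sq_sum_le_card_mul_sum_sq (s := (Finset.univ : Finset ((ZMod p)ˣ ⧸ D.expE)))
      (f := fun k => c' (H.E.Y k))
    rw [Finset.card_univ, ht] at h1
    simp only [pow_two] at h1
    have h2 : ∑ f ∈ Z, c' f ≤ ∑ f ∈ Z, c' f * c' f := Finset.sum_le_sum fun f _ => Nat.le_mul_self _
    obtain ⟨r, hr⟩ := hodd
    by_contra hne
    have h3 : 3 ≤ ∑ k, c' (H.E.Y k) := by omega
    have h4 := Nat.mul_le_mul_right (∑ k, c' (H.E.Y k)) h3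
    omega
  obtain ⟨k1, hk1, hk0⟩ : ∃ k1, c' (H.E.Y k1) = 1 ∧ ∀ k, k ≠ k1 → c' (H.E.Y k) = 0 := by
    obtain ⟨k1, -, hk1⟩ := Finset.exists_ne_zero_of_sum_ne_zero (by rw [hη]; decide : ∑ k, c' (H.E.Y k) ≠ 0)
    have h1 := Finset.add_sum_erase Finset.univ (fun k => c' (H.E.Y k)) (Finset.mem_univ k1)
    have h2 : c' (H.E.Y k1) = 1 ∧ ∑ k ∈ Finset.univ.erase k1, c' (H.E.Y k) = 0 := by
      simp only [hη] at h1
      omega
    exact ⟨k1, h2.1, fun k hk => Finset.sum_eq_zero_iff.mp h2.2 k (Finset.mem_erase.mpr ⟨hk, Finset.mem_univ _⟩)⟩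
  have hY2 : ∑ k, c' (H.E.Y k) * c' (H.E.Y k) = 1 := by
    rw [Finset.sum_eq_single k1 (fun k _ hk => by rw [hk0 k hk, zero_mul]) (fun h => absurd (Finset.mem_univ _) h),
      hk1]
  have hcZ : ∀ f ∈ Z, c' f = 1 := by
    have h2 : ∑ f ∈ Z, c' f = ∑ f ∈ Z, c' f * c' f := le_antisymm
      (Finset.sum_le_sum fun f _ => Nat.le_mul_self _) (by omega)
    intro f hf
    have h3 := (Finset.sum_eq_sum_iff_of_le fun f _ => Nat.le_mul_self _).mp h2 f hf
    exact ((mul_eq_left₀ (Finset.mem_filter.mp hf).2.2).mp h3.symm)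
  have hcardZ : 2 * Z.card + 1 = e := by
    rw [hη, Finset.sum_congr rfl fun f hf => hcZ f hf, Finset.sum_const, smul_eq_mul, mul_one] at hdeg'
    exact hdeg'
  have hsqr : ∀ g : G, (H.y : G → ℂ) g * (H.y : G → ℂ) g =
      (∑ f ∈ Z, (f : G → ℂ) g) + (H.E.Y k1 : G → ℂ) g := by
    intro g
    rw [hexp' g, hsplitZ, Finset.sum_congr rfl fun f (hf : f ∈ Z) =>
      show (c' f : ℂ) * (f : G → ℂ) g = (f : G → ℂ) g by rw [hcZ f hf, Nat.cast_one, one_mul],
      Finset.sum_eq_single k1 (fun k _ hk => by rw [hk0 k hk, Nat.cast_zero, zero_mul])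
        (fun h => absurd (Finset.mem_univ _) h), hk1, Nat.cast_one, one_mul]
  -- the symmetric and alternating parts
  obtain ⟨cs, hes, hcs, -⟩ := exists_coeff (isCharacter_symSquare (isCharacter_irr H.y))
  obtain ⟨ca, hea, hca, -⟩ := exists_coeff (isCharacter_altSquare (isCharacter_irr H.y))
  have hadd : ∀ f, cs f + ca f = c' f := by
    intro f
    have h1 : classInner (fun g => (H.y : G → ℂ) g * (H.y : G → ℂ) g) (f : G → ℂ) =
        classInner (fun g => ((H.y : G → ℂ) g * (H.y : G → ℂ) g + (H.y : G → ℂ) (g * g)) / 2) (f : G → ℂ) +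
        classInner (fun g => ((H.y : G → ℂ) g * (H.y : G → ℂ) g - (H.y : G → ℂ) (g * g)) / 2) (f : G → ℂ) := by
      rw [← classInner_add_left]
      congr 1
      funext g
      simp only [Pi.add_apply]
      ring
    rw [hc', hcs, hca] at h1
    exact_mod_cast h1.symm
  set σ : IrrCharacter G → ℤ := fun f => (cs f : ℤ) - ca f with hσ
  have hσc : ∀ f, c' f = 0 → σ f = 0 := fun f hf => by have := hadd f; simp only [hσ]; omega
  have hσ1 : ∀ f, c' f = 1 → σ f = 1 ∨ σ f = -1 := fun f hf => by have := hadd f; simp only [hσ]; omega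
  have hsquare : ∀ g : G, (H.y : G → ℂ) (g * g) =
      (∑ f ∈ Z, (σ f : ℂ) * (f : G → ℂ) g) + (σ (H.E.Y k1) : ℂ) * (H.E.Y k1 : G → ℂ) g := by
    intro g
    have h1 : (H.y : G → ℂ) (g * g) = ∑ f : IrrCharacter G, (σ f : ℂ) * (f : G → ℂ) g := by
      have h2 := hes g
      have h3 := hea g
      simp only [hσ, Int.cast_sub, Int.cast_natCast, sub_mul, Finset.sum_sub_distrib, ← h2, ← h3]
      ring
    have h4 : ∑ f : IrrCharacter G, (σ f : ℂ) * (f : G → ℂ) g =
        ∑ f : IrrCharacter G, (c' f : ℂ) * ((σ f : ℂ) * (f : G → ℂ) g) := by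
      refine Finset.sum_congr rfl fun f _ => ?_
      by_cases hf : c' f = 0
      · rw [hσc f hf, hf]; simp
      · have h5 : c' f = 1 := by
          by_cases hu : H.E.u f = 1
          · exact hcZ f (Finset.mem_filter.mpr ⟨Finset.mem_univ _, hu, hf⟩)
          · by_contra hne
            have h6 := hsplitZ fun f' => if f' = f then 1 else 0
            simp only [mul_ite, mul_one, mul_zero, Finset.sum_ite_eq', Finset.mem_univ, if_true] at h6
            rw [if_neg (fun hm => hu (Finset.mem_filter.mp hm).2.1), zero_add,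
              Finset.sum_eq_single k1 (fun k _ hk => by rw [hk0 k hk, Nat.cast_zero]; simp)
                (fun h => absurd (Finset.mem_univ _) h), hk1] at h6
            split_ifs at h6
            · exact hne (by exact_mod_cast h6)
            · exact hf (by exact_mod_cast h6)
        rw [h5, Nat.cast_one, one_mul]
    rw [h1, h4, hsplitZ, Finset.sum_congr rfl fun f (hf : f ∈ Z) =>
      show (c' f : ℂ) * ((σ f : ℂ) * (f : G → ℂ) g) = (σ f : ℂ) * (f : G → ℂ) g by
        rw [hcZ f hf, Nat.cast_one, one_mul],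
      Finset.sum_eq_single k1 (fun k _ hk => by rw [hk0 k hk, Nat.cast_zero, zero_mul])
        (fun h => absurd (Finset.mem_univ _) h), hk1, Nat.cast_one, one_mul]
  have hsum1 : 2 * (∑ f ∈ Z, σ f) + σ (H.E.Y k1) = 1 := by
    have h1 := hsquare 1
    rw [one_mul, hyd, val_one, (H.deg_Y k1).trans hde, Finset.sum_congr rfl fun f (hf : f ∈ Z) =>
      show (σ f : ℂ) * (f : G → ℂ) 1 = (σ f : ℂ) * ((2 * e : ℕ) : ℂ) by rw [val_one, (hZprop f hf).2.1],
      ← Finset.sum_mul] at h1
    have h2 : ((2 * (∑ f ∈ Z, σ f) + σ (H.E.Y k1) : ℤ) : ℂ) * (e : ℂ) = ((1 : ℤ) : ℂ) * (e : ℂ) := by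
      push_cast
      rw [one_mul]
      conv_rhs => rw [h1]
      push_cast
      ring
    exact_mod_cast mul_right_cancel₀ (Nat.cast_ne_zero.mpr H.small.e_pos.ne' : (e : ℂ) ≠ 0) h2
  have hσY : σ (H.E.Y k1) = -1 ∧ ∑ f ∈ Z, σ f = 1 := by
    have hodd' : Odd (∑ f ∈ Z, σ f) := by
      have h1 : (2 : ℤ) ∣ ∑ f ∈ Z, (σ f - 1) := Finset.dvd_sum fun f hf => by
        rcases hσ1 f (hcZ f hf) with h | h <;> rw [h] <;> decide
      rw [Finset.sum_sub_distrib, Finset.sum_const, nsmul_eq_mul, mul_one] at h1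
      obtain ⟨r, hr⟩ := h1
      obtain ⟨r', hr'⟩ := hXodd
      have : Z.card = X.card := by omega
      exact ⟨r + r', by omega⟩
    obtain ⟨r, hr⟩ := hodd'
    rcases hσ1 _ hk1 with h | h
    · omega
    · exact ⟨h, by omega⟩
  -- the support
  have hdisj : Disjoint X Z := Finset.disjoint_left.mpr fun f h1 h2 => by
    have := (hXprop f h1).1
    rw [(hZprop f h2).1] at this
    exact absurd this (by decide)
  have hone' : one ∉ X ∪ Z := fun h => by
    rcases Finset.mem_union.mp h with h | h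
    · exact (Finset.mem_filter.mp h).2.1 rfl
    · have := (hZprop one h).1
      rw [H.u_one] at this
      exact absurd this (by decide)
  have hsupp : insert one (X ∪ Z) = Finset.univ.filter fun f => H.E.u f ≠ 0 := by
    refine Finset.eq_of_subset_of_card_le (fun f hf => ?_) ?_
    · refine Finset.mem_filter.mpr ⟨Finset.mem_univ _, ?_⟩
      rcases Finset.mem_insert.mp hf with rfl | hf
      · rw [H.u_one]; decide
      rcases Finset.mem_union.mp hf with hf | hf
      · rw [(hXprop f hf).1]; decide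
      · rw [(hZprop f hf).1]; decide
    · rw [H.card_support, Finset.card_insert_of_notMem hone', Finset.card_union_of_disjoint hdisj]
      omega
  refine ⟨⟨X, Z, σ, hd, hde, hodd, hq2, m, hm, fun F => ?_, hcardX, hcardZ, hXprop, hZprop, hnormSq,
    fun g hg => by rw [hsqr g, H.y_eq k1 hg], fun g hg => by
      rw [hsquare g, hσY.1, H.y_eq k1 hg]; push_cast; ring,
    fun f hf => hσ1 f (hcZ f hf), hσY.2⟩⟩
  rw [← Finset.sum_subset (Finset.subset_univ (Finset.univ.filter fun f => H.E.u f ≠ 0)) fun f _ hf => by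
      rw [Finset.mem_filter, not_and, not_not] at hf
      rw [hf (Finset.mem_univ _), Int.cast_zero, zero_mul],
    ← hsupp, Finset.sum_insert hone', Finset.sum_union hdisj, H.u_one,
    Finset.sum_congr rfl fun f (hf : f ∈ X) => show (H.E.u f : ℂ) * F f = -F f by
      rw [(hXprop f hf).1, Int.cast_neg, Int.cast_one, neg_one_mul],
    Finset.sum_congr rfl fun f (hf : f ∈ Z) => show (H.E.u f : ℂ) * F f = F f by
      rw [(hZprop f hf).1, Int.cast_one, one_mul], Finset.sum_neg_distrib]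
  push_cast
  ring

end QData

end CfsgLib.Char.FewSylow.QPower
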