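import Cfsg.Agent.Lib.Char.FewSylow.QPower.Setup
import Cfsg.Agent.Lib.Char.ClassMul
import Cfsg.Agent.Lib.Char.FewSylow.Powers

/-!
# Simple groups of order `p qᵇ d`: the block relation and class multiplication

`rel H a b` is the bilinear form of the principal block; it gives the class multiplication
coefficient of two `p`-regular classes at an element of order `p`.
-/

set_option autoImplicit false
set_option linter.unusedSectionVars false
set_option linter.style.haveILetI false

open scoped ComplexConjugate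

namespace CfsgLib.Char.FewSylow.QPower

open Cfsg CfsgLib.Char CfsgLib.Block CfsgLib.Block.Cyclic CfsgLib.Char.FewSylow

universe u

variable {p : ℕ} [Fact p.Prime] {G : Type u} [Group G] [Fintype G] [DecidableEq G]
  {D : CycSetup p G} [Fintype D.K] {n e q b d : ℕ}

namespace QData

variable (H : QData D n e q b d)

/-- One exceptional character. -/
noncomputable def y : IrrCharacter G := H.E.Y 1

/-- The bilinear form of the principal block. -/
noncomputable def rel [Fintype (IrrCharacter G)] (a c : G) : ℂ :=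
  (∑ f : IrrCharacter G, (H.E.u f : ℂ) * ((f : G → ℂ) a * (f : G → ℂ) c / (f : G → ℂ) 1)) +
    (H.E.δ : ℂ) * ((H.y : G → ℂ) a * (H.y : G → ℂ) c / (H.y : G → ℂ) 1)

include H

theorem deg_y : deg H.y = d := H.deg_Y _

theorem regular_one : ¬ p ∣ orderOf (1 : G) := by simp [(Fact.out : p.Prime).ne_one]

theorem order_eq : e * (n * p + 1) = q ^ b * d := by
  have h := H.small.card_G
  rw [H.card] at h
  refine mul_left_cancel₀ (Fact.out : p.Prime).ne_zero ?_
  rw [← mul_assoc p (q ^ b) d, h]
  ring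

theorem ne_one_of_deg {f : IrrCharacter G} (h : deg f = d) : f ≠ Block.oneChar G := fun e => by
  rw [e, deg_one] at h
  have := H.d_two
  omega

theorem u_one : H.E.u (Block.oneChar G) = -1 := by
  classical
  have h := H.E.vec_eq (Block.oneChar G) 1
  rw [H.small.vec_one, if_neg fun he : Block.oneChar G = H.E.Y _ => H.ne_one_of_deg (H.deg_Y _) he.symm,
    mul_zero, add_zero] at h
  exact h.symm

theorem deg_u {f : IrrCharacter G} (hf : H.E.u f ≠ 0) :
    (deg f : ℤ) = p * fx D f + H.E.u f * ((p : ℤ) - 1) := by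
  rw [H.small.deg_eq_vec, Finset.sum_congr rfl fun j _ => H.E.vec_of_u hf j, Finset.sum_const,
    Finset.card_univ, ZMod.card_units_eq_totient, Nat.totient_prime (Fact.out : p.Prime), nsmul_eq_mul,
    Nat.cast_sub (Fact.out : p.Prime).one_lt.le, Nat.cast_one]
  ring

theorem not_dvd_deg_u {f : IrrCharacter G} (hf : H.E.u f ≠ 0) : ¬ p ∣ deg f := fun hd => by
  have hp : p.Prime := Fact.out
  have h1 := Int.natCast_dvd_natCast.mpr hd
  rw [H.deg_u hf, Int.dvd_add_right (dvd_mul_right _ _), mul_sub, mul_one,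
    dvd_sub_right (dvd_mul_left _ _)] at h1
  have hnot : ¬ (p : ℤ) ∣ 1 := fun h => hp.one_lt.ne' (Nat.dvd_one.mp (by exact_mod_cast h))
  rcases H.E.u_cases f with hz | hz | hz
  · exact hf hz
  · exact hnot (hz ▸ h1)
  · rw [hz, dvd_neg] at h1; exact hnot h1

theorem dvd_deg_u {f : IrrCharacter G} (hf : H.E.u f ≠ 0) : deg f ∣ q ^ b * d := by
  have h1 : deg f ∣ p * (q ^ b * d) := by
    have := Fintype.ofFinite (IrrCharacter G)
    rw [← mul_assoc, ← H.card]
    exact charDegree_dvd f
  exact (((Fact.out : p.Prime).coprime_iff_not_dvd.mpr (H.not_dvd_deg_u hf)).symm).dvd_of_dvd_mul_left h1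

theorem d_ne_u {f : IrrCharacter G} (hf : H.E.u f ≠ 0) : deg f ≠ d := fun hd => by
  have h1 := H.deg_u hf
  rw [hd] at h1
  have h2 : (p : ℤ) ∣ (d : ℤ) + H.E.u f := ⟨(fx D f : ℤ) + H.E.u f, by rw [h1]; ring⟩
  have := H.d_two
  have := H.d_lt
  rcases H.E.u_cases f with hz | hz | hz
  · exact hf hz
  · rw [hz] at h2; have := Int.le_of_dvd (by omega) h2; omega
  · rw [hz] at h2; have := Int.le_of_dvd (by omega) h2; omega

theorem card_support [Fintype (IrrCharacter G)] :
    (Finset.univ.filter fun f => H.E.u f ≠ 0).card = e := by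
  classical
  rw [← Fintype.card_subtype, ← Nat.card_eq_fintype_card, H.E.card_u, H.small.card_expE]

theorem fx_Y (k : (ZMod p)ˣ ⧸ D.expE) : fx D (H.E.Y k) = if H.E.δ = 1 then 0 else 1 := by
  have h := H.small.deg_Y_eq H.E k
  rw [H.deg_Y] at h
  rcases H.shape with ⟨hd, h2, -⟩ | ⟨hd, h2, -⟩
  · rw [if_pos hd]
    rw [hd] at h
    have : (p : ℤ) * fx D (H.E.Y k) = 0 := by omega
    exact_mod_cast (mul_eq_zero.mp this).resolve_left (Int.natCast_ne_zero.mpr (Fact.out : p.Prime).ne_zero)
  · rw [if_neg (by rw [hd]; decide)]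
    rw [hd] at h
    have : (p : ℤ) * fx D (H.E.Y k) = p * 1 := by omega
    exact_mod_cast mul_left_cancel₀ (Int.natCast_ne_zero.mpr (Fact.out : p.Prime).ne_zero) this

theorem y_eq (k : (ZMod p)ˣ ⧸ D.expE) {g : G} (hg : ¬ p ∣ orderOf g) :
    (H.E.Y k : G → ℂ) g = (H.y : G → ℂ) g := H.E.regular_eq k 1 g hg

/-- The relation at the `p`-regular elements. -/
theorem relation [Fintype (IrrCharacter G)] {g : G} (hg : ¬ p ∣ orderOf g) :
    (∑ f : IrrCharacter G, (H.E.u f : ℂ) * (f : G → ℂ) g) +
      (H.E.δ : ℂ) * (H.y : G → ℂ) g = 0 := by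
  classical
  have h1 := D.sum_vec_regular ((1 : (ZMod p)ˣ) : ZMod p) hg
  simp only [H.E.vec_eq, Int.cast_add, Int.cast_mul, Int.cast_ite, Int.cast_one, Int.cast_zero,
    add_mul, Finset.sum_add_distrib, mul_ite, mul_one, mul_zero, ite_mul, zero_mul,
    Finset.sum_ite_eq', Finset.mem_univ, if_true] at h1
  rw [H.y_eq _ hg] at h1
  exact h1

/-- The relation at the identity. -/
theorem relation_one [Fintype (IrrCharacter G)] :
    (∑ f : IrrCharacter G, H.E.u f * (deg f : ℤ)) + H.E.δ * d = 0 := by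
  have h := H.relation H.regular_one
  simp only [val_one, H.deg_y] at h
  exact_mod_cast h

/-- The value at an element of order `p`. -/
theorem value_xp (f : IrrCharacter G) {i : ZMod p} (hi : i ≠ 0) :
    (f : G → ℂ) (D.xp i) = ∑ j : (ZMod p)ˣ, (D.vec f j : ℂ) * stdPsi p (i * j) := by
  rw [← H.small.dval_eq (f : G → ℂ) i, D.dval_eq_sum_mult]
  simp only [D.mult_eq, CycSetup.vec, Int.cast_sub, Int.cast_natCast, sub_mul, Finset.sum_sub_distrib,
    ← Finset.mul_sum]
  have hs : ∑ j : (ZMod p)ˣ, stdPsi p (i * j) = -1 := by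
    have h1 := sum_stdPsi_mul (p := p) i
    rw [if_neg hi, sum_zmod_split (fun j : ZMod p => stdPsi p (j * i)), zero_mul,
      AddChar.map_zero_eq_one] at h1
    rw [Finset.sum_congr rfl fun (j : (ZMod p)ˣ) _ => congrArg (stdPsi p) (mul_comm i (j : ZMod p))]
    linear_combination h1
  rw [hs, sum_zmod_split (fun j : ZMod p => stdPsi p (i * j) * (D.multN f j : ℂ)), mul_zero,
    AddChar.map_zero_eq_one, one_mul,
    Finset.sum_congr rfl fun j _ => mul_comm (stdPsi p (i * (j : (ZMod p)ˣ))) (D.multN f (j : (ZMod p)ˣ) : ℂ)]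
  ring

theorem sum_conj_psi {i : ZMod p} (hi : i ≠ 0) :
    ∑ j : (ZMod p)ˣ, conj (stdPsi p (i * j)) = -1 := by
  have h1 := sum_stdPsi_mul (p := p) i
  rw [if_neg hi, sum_zmod_split (fun j : ZMod p => stdPsi p (j * i)), zero_mul,
    AddChar.map_zero_eq_one] at h1
  rw [← map_sum, Finset.sum_congr rfl fun (j : (ZMod p)ˣ) _ => congrArg (stdPsi p) (mul_comm i (j : ZMod p)),
    show ∑ j : (ZMod p)ˣ, stdPsi p ((j : ZMod p) * i) = -1 by linear_combination h1, map_neg, map_one]

/-- The character sum of the class multiplication at an element of order `p`. -/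
theorem sum_eq_neg_rel [Fintype (IrrCharacter G)] {a c : G} (ha : ¬ p ∣ orderOf a)
    (hc : ¬ p ∣ orderOf c) {i : ZMod p} (hi : i ≠ 0) :
    ∑ f : IrrCharacter G,
      (f : G → ℂ) a * (f : G → ℂ) c * conj ((f : G → ℂ) (D.xp i)) / (f : G → ℂ) 1 = -H.rel a c := by
  classical
  have key : ∀ f : IrrCharacter G,
      (f : G → ℂ) a * (f : G → ℂ) c * conj ((f : G → ℂ) (D.xp i)) / (f : G → ℂ) 1 =
        ∑ j : (ZMod p)ˣ, ((H.E.u f : ℂ) * ((f : G → ℂ) a * (f : G → ℂ) c / (f : G → ℂ) 1) +
          (if f = H.E.Y j then (H.E.δ : ℂ) * ((f : G → ℂ) a * (f : G → ℂ) c / (f : G → ℂ) 1) else 0)) *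
            conj (stdPsi p (i * j)) := by
    intro f
    rw [H.value_xp f hi, map_sum, Finset.mul_sum, Finset.sum_div]
    refine Finset.sum_congr rfl fun j _ => ?_
    rw [map_mul, map_intCast, H.E.vec_eq]
    push_cast
    split_ifs with hj
    · ring
    · ring
  rw [Finset.sum_congr rfl fun f _ => key f, Finset.sum_comm]
  simp only [add_mul, Finset.sum_add_distrib, ← Finset.sum_mul, Finset.sum_ite_eq', Finset.mem_univ,
    if_true, H.y_eq _ ha, H.y_eq _ hc]
  simp only [val_one, H.deg_Y, ← Finset.mul_sum, H.sum_conj_psi hi]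
  rw [rel]
  simp only [val_one, H.deg_y]
  ring

theorem rel_comm [Fintype (IrrCharacter G)] (a c : G) : H.rel a c = H.rel c a := by
  simp only [rel, mul_comm ((_ : G → ℂ) a)]

/-- The class multiplication coefficient at an element of order `p`. -/
theorem classConst_eq [Fintype (IrrCharacter G)] {a c : G} (ha : ¬ p ∣ orderOf a)
    (hc : ¬ p ∣ orderOf c) {i : ZMod p} (hi : i ≠ 0) :
    (classConst a c (D.xp i) : ℂ) =
      ((Subgroup.centralizer ({a} : Set G)).index : ℂ) * ((Subgroup.centralizer ({c} : Set G)).index : ℂ) /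
        (Nat.card G : ℂ) * -H.rel a c := by
  rw [classConst_formula, card_isConj, card_isConj, finsum_eq_sum_of_fintype, H.sum_eq_neg_rel ha hc hi]

/-- An irreducible character of degree `d` is exceptional or of defect zero. -/
theorem eq_Y_of_deg {f : IrrCharacter G} (hd : deg f = d) : ∃ k, H.E.Y k = f := by
  classical
  by_contra hne
  push Not at hne
  by_cases hu : H.E.u f = 0
  · have h1 := H.small.deg_eq_vec f
    rw [Finset.sum_eq_zero fun j _ => by rw [H.E.vec_eq, hu, if_neg fun e => hne _ e.symm, mul_zero,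
      add_zero], add_zero, hd] at h1
    have h2 : d = p * fx D f := by exact_mod_cast h1
    have := H.d_two
    have := H.d_lt
    rcases Nat.eq_zero_or_pos (fx D f) with h0 | h0
    · rw [h0, mul_zero] at h2; omega
    · have := Nat.le_mul_of_pos_right p h0; omega
  · exact H.d_ne_u hu hd

/-- The exceptional characters are real at the `p`-regular elements. -/
theorem conj_y {g : G} (hg : ¬ p ∣ orderOf g) : conj ((H.y : G → ℂ) g) = (H.y : G → ℂ) g := by
  classical
  have hconj : IsIrrCharacter G (fun g => conj ((H.y : G → ℂ) g)) := by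
    refine isIrr_of_isCharacter_norm_one (isCharacter_conj (isCharacter_irr _)) ?_
    have e1 : classInner (fun g => conj ((H.y : G → ℂ) g)) (fun g => conj ((H.y : G → ℂ) g)) =
        conj (classInner (H.y : G → ℂ) (H.y : G → ℂ)) := by
      simp [classInner]
    rw [e1, classInner_irr_self, map_one]
  obtain ⟨k, hk⟩ := H.eq_Y_of_deg (f := ⟨_, hconj⟩) (by
    have h1 := val_one (⟨_, hconj⟩ : IrrCharacter G)
    have h2 : conj ((H.y : G → ℂ) 1) = (deg (⟨_, hconj⟩ : IrrCharacter G) : ℂ) := h1
    rw [val_one, H.deg_y, map_natCast] at h2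
    exact_mod_cast h2.symm)
  have h1 := H.y_eq k hg
  rw [hk] at h1
  exact h1

theorem b_pos (hn : 1 ≤ n) : 1 ≤ b := by
  by_contra hb
  obtain rfl : b = 0 := by omega
  have h1 := H.order_eq
  rw [pow_zero, one_mul] at h1
  have h2 : e * (1 * p + 1) ≤ e * (n * p + 1) :=
    Nat.mul_le_mul_left e (Nat.add_le_add_right (Nat.mul_le_mul_right p hn) 1)
  have := H.d_lt
  have := Nat.le_mul_of_pos_left (1 * p + 1) H.small.e_pos
  omega

end QData

end CfsgLib.Char.FewSylow.QPower
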