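import Cfsg.Agent.Lib.Char.FewSylow.Section
import Cfsg.Agent.Lib.Char.FewSylow.LargePrime
import Cfsg.Agent.Lib.Char.FewSylow.LargePrimeMain
import Cfsg.Agent.Lib.Block.Cyclic.HalfBound

/-!
# Simple groups of order `p qᵇ d` with `d < p - 1`: the principal block

`QData`: the Sylow subgroup of order `p` is self-centralizing and the exceptional characters of
the principal block have degree `d`, which is `e = (p - 1)/2` or `p - e`.
-/

set_option autoImplicit false
set_option linter.unusedSectionVars false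
set_option linter.style.haveILetI false

namespace CfsgLib.Char.FewSylow.QPower

open Cfsg CfsgLib.Char CfsgLib.Block CfsgLib.Block.Cyclic CfsgLib.Char.FewSylow

universe u

variable {p : ℕ} [Fact p.Prime] {G : Type u} [Group G] [Fintype G] [DecidableEq G]

/-- The data for a group of order `p qᵇ d`. -/
structure QData (D : CycSetup p G) [Fintype D.K] (n e q b d : ℕ) where
  small : Small D n e
  prime_q : q.Prime
  q_ne : q ≠ p
  card : Nat.card G = p * q ^ b * d
  not_dvd : ¬ q ∣ d
  two_le : 2 ≤ e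
  d_two : 2 ≤ d
  d_lt : d < p - 1
  B : Set (IrrCharacter G)
  E : D.Exceptional B
  deg_Y : ∀ k, deg (E.Y k) = d
  shape : (E.δ = 1 ∧ d = e ∧ 2 * e = p - 1) ∨ (E.δ = -1 ∧ d + e = p ∧ p ≤ 2 * d + 1)

theorem coset_card (D : CycSetup p G) [Fintype D.K] (k : (ZMod p)ˣ ⧸ D.expE) [DecidableEq ((ZMod p)ˣ ⧸ D.expE)] :
    (Finset.univ.filter fun j : (ZMod p)ˣ => k = (j : (ZMod p)ˣ ⧸ D.expE)).card = Nat.card D.expE := by
  classical
  have hp := QuotientGroup.card_preimage_mk D.expE {k}
  rw [Nat.card_unique (α := ({k} : Set ((ZMod p)ˣ ⧸ D.expE))), mul_one] at hp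
  rw [← hp, ← Fintype.card_subtype, ← Nat.card_eq_fintype_card]
  exact Nat.card_congr (Equiv.subtypeEquivRight fun j => ⟨fun e => e.symm, fun e => e.symm⟩)

/-- The principal block contains a non-trivial character of degree prime to `q`. -/
theorem exists_deg_not_dvd (hperf : commutator G = ⊤) (D : CycSetup p G) [Fintype D.K]
    {B : Set (IrrCharacter G)} (E : D.Exceptional B) (h1 : Block.oneChar G ∈ B) {q : ℕ}
    (hq : q.Prime) :
    ∃ f ∈ B, f ≠ Block.oneChar G ∧ ¬ q ∣ deg f := by
  classical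
  have := Fintype.ofFinite (IrrCharacter G)
  by_contra hall
  push Not at hall
  set one := Block.oneChar G with hone
  have key : ∀ j : (ZMod p)ˣ,
      (∑ f : IrrCharacter G, E.u f * (deg f : ℤ)) + E.δ * deg (E.Y j) = 0 := by
    intro j
    have h1 := D.sum_vec_regular (j : ZMod p) (g := 1) (by simp [(Fact.out : p.Prime).ne_one])
    simp only [val_one, E.vec_eq] at h1
    have h2 : ∑ f : IrrCharacter G, (E.u f + E.δ * (if f = E.Y j then 1 else 0)) * (deg f : ℤ) = 0 := by
      exact_mod_cast h1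
    rw [Finset.sum_congr rfl (g := fun f => E.u f * (deg f : ℤ) +
      (if f = E.Y j then E.δ * deg (E.Y j) else 0)) fun f _ => by
        split_ifs with hf
        · subst hf; ring
        · ring, Finset.sum_add_distrib, Finset.sum_ite_eq', if_pos (Finset.mem_univ _)] at h2
    exact h2
  have hdiv : ∀ f ∈ B, f ≠ one → (q : ℤ) ∣ deg f := fun f hf hf1 =>
    Int.natCast_dvd_natCast.mpr (hall f hf hf1)
  have hsum : (q : ℤ) ∣ (∑ f : IrrCharacter G, E.u f * (deg f : ℤ)) - E.u one := by
    have e1 : (∑ f : IrrCharacter G, E.u f * (deg f : ℤ)) - E.u one =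
        ∑ f ∈ Finset.univ.erase one, E.u f * (deg f : ℤ) := by
      rw [← Finset.add_sum_erase _ _ (Finset.mem_univ one), show deg one = 1 from deg_one]
      push_cast; ring
    rw [e1]
    refine Finset.dvd_sum fun f hf => ?_
    by_cases hu : E.u f = 0
    · simp [hu]
    · exact dvd_mul_of_dvd_right (hdiv f (E.mem_of_u hu) (Finset.mem_erase.mp hf).1) _
  have hnot : ¬ (q : ℤ) ∣ 1 := fun h => hq.one_lt.ne' (Nat.dvd_one.mp (by exact_mod_cast h))
  rcases (E.mem one).mp h1 with hu | ⟨k, hk⟩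
  · obtain ⟨j, hj⟩ := QuotientGroup.mk_surjective (1 : (ZMod p)ˣ ⧸ D.expE)
    have hY : E.Y j ≠ one := fun e => hu (e ▸ E.u_Y _)
    have h2 : (q : ℤ) ∣ E.δ * deg (E.Y j) :=
      dvd_mul_of_dvd_right (hdiv _ ((E.mem _).mpr (Or.inr ⟨_, rfl⟩)) hY) _
    have h3 : (q : ℤ) ∣ E.u one := by
      have h4 := dvd_add hsum h2
      rw [sub_add_eq_add_sub, key j, zero_sub, dvd_neg] at h4
      exact h4
    rcases E.u_cases one with hz | hz | hz
    · exact hu hz
    · exact hnot (hz ▸ h3)
    · rw [hz, dvd_neg] at h3; exact hnot h3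
  · obtain ⟨j, rfl⟩ := QuotientGroup.mk_surjective k
    have h3 := key j
    rw [hk, hone, deg_one, Nat.cast_one, mul_one] at h3
    rw [show E.u one = 0 from hk ▸ E.u_Y _, sub_zero] at hsum
    rw [add_eq_zero_iff_eq_neg] at h3
    rw [h3, dvd_neg] at hsum
    rcases E.sign with hd | hd <;> rw [hd] at hsum
    · exact hnot hsum
    · exact hnot (dvd_neg.mp hsum)

/-- The set-up. -/
theorem exists_qData {G : Type u} [Group G] [Fintype G] [DecidableEq G] [IsSimpleGroup G]
    (hG : ¬ IsCyclic G) {q b g₀ : ℕ} (hq : q.Prime) (hqp : q ≠ p)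
    (hcard : Nat.card G = p * q ^ b * g₀) (hg : g₀ < p - 1) (hqg : ¬ q ∣ g₀) :
    ∃ (D : CycSetup p G) (_ : Fintype D.K) (n e : ℕ), Nonempty (QData D n e q b g₀) := by
  classical
  have hp : p.Prime := Fact.out
  have hperf := perfect_of_simple hG
  have hg0 : 0 < g₀ := Nat.pos_of_ne_zero fun h0 => Nat.card_pos.ne' (by rw [hcard, h0, mul_zero])
  have hpg : ¬ p ∣ g₀ := fun h => by have := Nat.le_of_dvd hg0 h; omega
  have hcop : Nat.Coprime p (q ^ b * g₀) := by
    refine Nat.Coprime.mul_right (Nat.Coprime.pow_right _ ?_) (hp.coprime_iff_not_dvd.mpr hpg)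
    exact (Nat.coprime_primes hp hq).mpr hqp.symm
  have hdvd : p ∣ Nat.card G := hcard ▸ dvd_mul_of_dvd_left (dvd_mul_right _ _) _
  have hsq : ¬ p ^ 2 ∣ Nat.card G := by
    rw [hcard, mul_assoc, sq, Nat.mul_dvd_mul_iff_left hp.pos]
    exact hp.coprime_iff_not_dvd.mp hcop
  let P : Sylow p G := default
  have hP : Nat.card (P : Subgroup G) = p := by
    rw [P.card_eq_multiplicity, factorization_eq_one hdvd hsq, pow_one]
  have hPn : ¬ (P : Subgroup G).Normal := fun hn => by
    rcases hn.eq_bot_or_eq_top with hb | ht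
    · rw [hb, Subgroup.card_bot] at hP; exact hp.ne_one hP.symm
    · haveI : Fact p.Prime := ⟨hp⟩
      refine hG (isCyclic_of_prime_card (p := p) ?_)
      rw [← hP, ht, Subgroup.card_top]
  obtain ⟨D, hD⟩ := exists_cycSetup (Q := (P : Subgroup G)) hP hsq
  let D' := D.withChar (Block.oneChar D.K)
  let iK : Fintype D'.K := Fintype.ofFinite _
  let _ : Fintype (norm D') := Fintype.ofFinite _
  let _ : Fintype (Subgroup.centralizer (D'.Q : Set G)) := Fintype.ofFinite _
  have := Fintype.ofFinite (IrrCharacter G)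
  have hD' : D'.Q = (P : Subgroup G) := hD
  have htriv : ∀ y, (D'.φ : D'.K → ℂ) y = 1 := fun _ => rfl
  obtain ⟨M, hM⟩ := CfsgLib.Block.exists_pModular hp
  have := hM.2.1
  have hBD := D'.blockData_principal hM (P := P) hD' htriv
  obtain ⟨E⟩ := D'.exists_exceptional_family hM hBD
  set e := Nat.card D'.expE with hedef
  have he : 2 ≤ e := by
    by_contra hlt
    have h1 : Nat.card D'.expE = 1 := by
      have := Nat.card_pos (α := D'.expE); omega
    rw [D'.card_expE, D'.stab_eq_normalizer htriv, Subgroup.relIndex_eq_one] at h1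
    exact not_normalizer_le_centralizer hperf P hP (hD' ▸ h1)
  have hedvd : e ∣ p - 1 := by
    rw [← Nat.totient_prime hp, ← ZMod.card_units_eq_totient p, ← Nat.card_eq_fintype_card]
    exact Subgroup.card_subgroup_dvd_card _
  obtain ⟨f, hfB, hf1, hfq⟩ :=
    exists_deg_not_dvd hperf D' E (one_mem_principalBlock (M := M)) hq
  have hd1 : deg f ≠ 1 := fun h => hf1 (hlin_of_perfect hperf h)
  have hdpos := deg_pos f
  obtain ⟨m, hm⟩ := deg_section D' hBD htriv hfB
  have hunits : (Fintype.card (ZMod p)ˣ : ℤ) = p - 1 := by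
    rw [ZMod.card_units_eq_totient, Nat.totient_prime hp, Nat.cast_sub hp.one_lt.le, Nat.cast_one]
  have hdiv : ¬ p ∣ deg f → deg f ∣ g₀ := fun hnd => by
    have h1 : deg f ∣ p * (q ^ b * g₀) := by
      rw [← mul_assoc, ← hcard]
      exact charDegree_dvd f
    have h2 := ((hp.coprime_iff_not_dvd.mpr hnd).symm).dvd_of_dvd_mul_left h1
    exact (((hq.coprime_iff_not_dvd.mpr hfq).symm).pow_right b).dvd_of_dvd_mul_left h2
  have hep := Nat.le_of_dvd (by omega) hedvd
  have hpdvd : ∀ {c : ℤ}, (deg f : ℤ) = p * m + c → (p : ℤ) ∣ (deg f : ℤ) - c := fun h =>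
    ⟨(m : ℤ), by rw [h]; ring⟩
  obtain ⟨k, rfl⟩ : ∃ k, E.Y k = f := by
    refine ((E.mem f).mp hfB).resolve_left fun hu => ?_
    rw [Finset.sum_congr rfl fun j _ => E.vec_of_u hu j, Finset.sum_const, Finset.card_univ,
      nsmul_eq_mul, hunits] at hm
    have hnd : ¬ p ∣ deg f := fun hdv => by
      have h2 : (p : ℤ) ∣ ((p : ℤ) - 1) * E.u f := by
        have := dvd_sub (Int.natCast_dvd_natCast.mpr hdv) (hpdvd hm)
        rwa [sub_sub_cancel] at this
      have h3 : (p : ℤ) ∣ E.u f := by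
        have h4 := dvd_sub (dvd_mul_right (p : ℤ) (E.u f)) h2
        rwa [sub_mul, one_mul, sub_sub_cancel] at h4
      have hnot : ¬ (p : ℤ) ∣ 1 := fun h => hp.one_lt.ne' (Nat.dvd_one.mp (by exact_mod_cast h))
      rcases E.u_cases f with hz | hz | hz
      · exact hu hz
      · exact hnot (hz ▸ h3)
      · rw [hz, dvd_neg] at h3; exact hnot h3
    have hle := Nat.le_of_dvd hg0 (hdiv hnd)
    have h4 : (p : ℤ) ∣ (deg f : ℤ) + E.u f := by
      refine ⟨(m : ℤ) + E.u f, ?_⟩
      rw [hm]; ring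
    rcases E.u_cases f with hz | hz | hz
    · exact hu hz
    · rw [hz] at h4
      have := Int.le_of_dvd (by omega) h4
      omega
    · rw [hz] at h4
      have := Int.le_of_dvd (by omega) h4
      omega
  have hS : ∀ k, (∑ j : (ZMod p)ˣ, D'.vec (E.Y k) j) = E.δ * e := fun k => by
    simp only [E.vec_Y, ← Finset.mul_sum, Finset.sum_boole, coset_card]
    rfl
  rw [hS] at hm
  have hnd : ¬ p ∣ deg (E.Y k) := fun hdv => by
    have h2 := dvd_sub (Int.natCast_dvd_natCast.mpr hdv) (hpdvd hm)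
    rw [sub_sub_cancel] at h2
    have h3 : p ∣ e := by
      rcases E.sign with hd | hd <;> rw [hd] at h2
      · rw [one_mul] at h2; exact Int.natCast_dvd_natCast.mp h2
      · rw [neg_one_mul, dvd_neg] at h2; exact Int.natCast_dvd_natCast.mp h2
    have := Nat.le_of_dvd (by omega) h3
    omega
  have hdd := hdiv hnd
  have hle := Nat.le_of_dvd hg0 hdd
  set d := deg (E.Y k) with hdef
  have hshape0 : (E.δ = 1 ∧ d = e) ∨ (E.δ = -1 ∧ d + e = p) := by
    rcases E.sign with hd | hd <;> rw [hd] at hm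
    · refine Or.inl ⟨hd, ?_⟩
      rcases Nat.eq_zero_or_pos m with rfl | hm0
      · omega
      · have : (p : ℤ) * 1 ≤ p * (m : ℤ) := mul_le_mul_of_nonneg_left (by omega) (by omega)
        omega
    · refine Or.inr ⟨hd, ?_⟩
      rcases lt_trichotomy m 1 with hm0 | rfl | hm0
      · obtain rfl : m = 0 := by omega
        omega
      · omega
      · have : (p : ℤ) * 2 ≤ p * (m : ℤ) := mul_le_mul_of_nonneg_left (by omega) (by omega)
        omega
  have helt : e < p - 1 := by rcases hshape0 with ⟨-, h⟩ | ⟨-, h⟩ <;> omega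
  -- the degree bound
  have hf_ne : E.Y k ≠ Block.oneChar G := hf1
  have hhalf : p ≤ 2 * d + 1 := by
    by_contra hlt
    have hn := CfsgLib.Block.Cyclic.normal_of_degree_lt_half hM (Nat.card G) G rfl hsq
      (E.Y k : G → ℂ) (isCharacter_irr _)
      (fun g hg => eq_one_of_value_eq_deg hf_ne (by rw [hg, val_one]))
      (show 2 * d + 1 < p by omega) (P : Subgroup G) hP
    exact hPn hn
  have hg0d : d = g₀ := by
    obtain ⟨c, hc⟩ := hdd
    have hc0 : 0 < c := Nat.pos_of_ne_zero fun h0 => by rw [h0, mul_zero] at hc; omega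
    by_contra hne
    have hc2 : 2 ≤ c := by
      by_contra hh
      obtain rfl : c = 1 := by omega
      omega
    have : d * 2 ≤ d * c := Nat.mul_le_mul_left d hc2
    omega
  have hshape : (E.δ = 1 ∧ d = e ∧ 2 * e = p - 1) ∨ (E.δ = -1 ∧ d + e = p ∧ p ≤ 2 * d + 1) := by
    rcases hshape0 with ⟨h1, h2⟩ | ⟨h1, h2⟩
    · refine Or.inl ⟨h1, h2, ?_⟩
      obtain ⟨c, hc⟩ := hedvd
      have hc2 : c = 2 := by
        rcases Nat.lt_or_ge c 2 with hh | hh
        · interval_cases c <;> omega
        rcases Nat.eq_or_lt_of_le hh with hh | hh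
        · exact hh.symm
        · have : e * 3 ≤ e * c := Nat.mul_le_mul_left e hh
          omega
      rw [hc, hc2, mul_comm]
    · exact Or.inr ⟨h1, h2, hhalf⟩
  -- the regular part is trivial
  have hK : ∀ y : D'.K, (y : G) = 1 := fun y => by
    refine eq_one_of_value_eq_deg hf_ne (value_regular D' hBD htriv hfB ?_ y)
    have h1 := sum_multN D' (E.Y k)
    rw [hS] at h1
    have h0 : (0 : ℤ) ≤ ((∑ j : ZMod p, D'.multN (E.Y k) j : ℕ) : ℤ) := Int.natCast_nonneg _
    rcases hshape with ⟨hd, h2, -⟩ | ⟨hd, h2, -⟩ <;> rw [hd] at h1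
    · have : (0 : ℤ) ≤ (p : ℤ) * D'.multN (E.Y k) 0 := by positivity
      omega
    · have h3 : 1 ≤ D'.multN (E.Y k) 0 := by
        by_contra hh
        rw [show D'.multN (E.Y k) 0 = 0 by omega] at h1
        omega
      have : (p : ℤ) * 1 ≤ p * (D'.multN (E.Y k) 0 : ℤ) :=
        mul_le_mul_of_nonneg_left (by exact_mod_cast h3) (by omega)
      omega
  have hcent : Subgroup.centralizer (D'.Q : Set G) = D'.Q := by
    refine le_antisymm (fun c hc => ?_) D'.Q_le_C
    obtain ⟨i, hi⟩ := D'.exists_xp_mul_proj ⟨c, hc⟩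
    rw [hK, mul_one] at hi
    exact (show c = D'.xp i from hi) ▸ D'.xp_mem i
  obtain ⟨e', he'⟩ : p ∣ Nat.card (norm D') := by
    conv_lhs => rw [← D'.hQ]
    exact Subgroup.card_dvd_of_le D'.Q.le_normalizer
  obtain ⟨n, hn⟩ : ∃ n, (norm D').index = n * p + 1 := by
    have h1 := card_sylow_modEq_one p G
    have h2 : Nat.card (Sylow p G) % p = 1 := by rw [h1, Nat.mod_eq_of_lt hp.one_lt]
    refine ⟨Nat.card (Sylow p G) / p, ?_⟩
    rw [show norm D' = Subgroup.normalizer ((P : Subgroup G) : Set G) by rw [norm, hD'],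
      show (Subgroup.normalizer ((P : Subgroup G) : Set G)).index = Nat.card (Sylow p G) from
        (Sylow.card_eq_index_normalizer P).symm]
    conv_lhs => rw [← Nat.div_add_mod (Nat.card (Sylow p G)) p, h2, mul_comm]
  have hsmall : Small D' n e' := ⟨hcent, by rw [he', mul_comm], hn⟩
  have hee : e' = e := hsmall.card_expE.symm
  subst hee
  exact ⟨D', iK, n, _, ⟨{
    small := hsmall
    prime_q := hq
    q_ne := hqp
    card := hcard
    not_dvd := hqg
    two_le := he
    d_two := by omega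
    d_lt := hg
    B := principalBlock M G
    E := E
    deg_Y := fun k' => by
      have h1 := E.regular_eq k' k 1 (by simp [hp.ne_one])
      rw [val_one, val_one] at h1
      have h2 : deg (E.Y k') = d := by exact_mod_cast h1
      rw [h2, hg0d]
    shape := hg0d ▸ hshape }⟩⟩

end CfsgLib.Char.FewSylow.QPower
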